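import Groth.Agent.L17.Gaeta.Generic
import Groth.Agent.L24.SB.PnLift
import Groth.Agent.L03.VBPn.CotEnd
import Groth.Agent.L03.VBPn.CokerSimple
import Groth.Agent.L16.CohSupport
import Groth.Agent.L16.DevissageKilled
import Groth.Agent.L14.Quot.ExtFin
import Mathlib.LinearAlgebra.TensorProduct.Basis

/-!
Gaeta resolutions on the projective plane.
-/

set_option autoImplicit false
set_option linter.style.haveILetI false
set_option backward.defeqAttrib.useBackward true
set_option backward.isDefEq.respectTransparency false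
set_option backward.isDefEq.respectTransparency.types false

universe u

open CategoryTheory CategoryTheory.Limits AlgebraicGeometry

noncomputable section

namespace Groth.L17.Gaeta

open Groth.L00.Tensor (tensorRightF tensorIso tensorUnitLeft tensorUnitRight)
open Groth.L22.Reg (O' tw' Regular shortExact_tw nonempty_tw_tw nonempty_tw_zero nonempty_O_add nonempty_O_zero
  subsingleton_of_exact)
open Groth.L16.CohLinear (hmap exact_hmap_delta exact_delta_hmap exact_hmap_hmap)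
open Groth.L24.SB (Lifts surjective_hmap_tw lifts_of_surjective epi_of_lifts)

variable {k : Type u} [Field k]

local notation "P" => CohB1.ProjSpace 2 k
local notation "OP" => Coh.structureModule (CohB1.ProjSpace 2 k)
local notation "Om1" => Twist.twistProjSpace 2 k (-1)

theorem sub_iso {A B : (P).Modules} (e : A ≅ B) (q : ℕ) (h : Subsingleton (Coh.HH (P) A q)) :
    Subsingleton (Coh.HH (P) B q) :=
  Groth.L22.Reg.subsingleton_iso e q h

theorem exists_smul_O (g : OP ⟶ OP) : ∃ c : k, g = c • 𝟙 (OP) :=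
  Groth.L03.VBPn.exists_eq_smul_id Groth.L16.ProjSpace.toGlobal_bijective (tensorUnitRight (OP)) g

theorem exists_smul_Om1 (g : (Om1 : (P).Modules) ⟶ Om1) : ∃ c : k, g = c • 𝟙 (Om1) := by
  obtain ⟨a⟩ := nonempty_O_add (n := 2) (R := k) (show (-1 : ℤ) + 1 = 0 by norm_num)
  obtain ⟨b⟩ := nonempty_O_zero 2 k
  exact Groth.L03.VBPn.exists_eq_smul_id Groth.L16.ProjSpace.toGlobal_bijective (a ≪≫ b) g

/-- `O(-1)^a ⊕ O^b`. -/
abbrev tgt (k : Type u) [Field k] (a b : ℕ) : (CohB1.ProjSpace 2 k).Modules :=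
  (∐ fun _ : Fin a => Twist.twistProjSpace 2 k (-1)) ⊞ (∐ fun _ : Fin b => Coh.structureModule (CohB1.ProjSpace 2 k))

theorem subsingleton_tgt (a b : ℕ) (t : ℤ) (q : ℕ) (h0 : q = 0 → t < 0) (h2 : q = 2 → -2 < t) :
    Subsingleton (Coh.HH (P) (tw' (tgt k a b) t) q) := by
  obtain ⟨z⟩ := nonempty_O_zero 2 k
  haveI := Groth.L22.PDual.isEquivalence_tw (n := 2) (k := k) t
  haveI : (tensorRightF (O' 2 k t)).Additive := Functor.additive_of_preserves_binary_products _
  haveI := preservesBinaryBiproduct_of_preservesBiproduct (tensorRightF (O' 2 k t))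
    (∐ fun _ : Fin a => Twist.twistProjSpace 2 k (-1)) (∐ fun _ : Fin b => Coh.structureModule (CohB1.ProjSpace 2 k))
  refine sub_iso ((tensorRightF (O' 2 k t)).mapBiprod _ _).symm q (Groth.L22.Reg.subsingleton_biprod q ?_ ?_)
  · exact Groth.L22.PDual.subsingleton_sigma_mid (fun _ : Fin a => (-1 : ℤ)) (Iso.refl _) t
      fun _ => ⟨fun h => by have := h0 h.1; omega, fun h => by have := h2 h.1; omega⟩
  · exact Groth.L22.PDual.subsingleton_sigma_mid (fun _ : Fin b => (0 : ℤ))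
      (Sigma.mapIso fun _ => z.symm) t
      fun _ => ⟨fun h => by have := h0 h.1; omega, fun h => by have := h2 h.1; omega⟩

theorem sub₃ {X : Scheme.{u}} {T : ShortComplex X.Modules} (hT : T.ShortExact) (q : ℕ)
    (h2 : Subsingleton (Coh.HH X T.X₂ q)) (h1 : Subsingleton (Coh.HH X T.X₁ (q + 1))) :
    Subsingleton (Coh.HH X T.X₃ q) :=
  subsingleton_of_exact (exact_hmap_delta hT q) h2 h1 (map_zero _)

theorem sub₁ {X : Scheme.{u}} {T : ShortComplex X.Modules} (hT : T.ShortExact) (q : ℕ)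
    (h3 : Subsingleton (Coh.HH X T.X₃ q)) (h2 : Subsingleton (Coh.HH X T.X₂ (q + 1))) :
    Subsingleton (Coh.HH X T.X₁ (q + 1)) :=
  subsingleton_of_exact (exact_delta_hmap hT q) h3 h2 (map_zero _)

section LES

variable {S : ShortComplex (CohB1.ProjSpace 2 k).Modules} (hS : S.ShortExact) (t : ℤ) (q : ℕ)

include hS

theorem subsingleton_X₃ (h2 : Subsingleton (Coh.HH (P) (tw' S.X₂ t) q))
    (h1 : Subsingleton (Coh.HH (P) (tw' S.X₁ t) (q + 1))) : Subsingleton (Coh.HH (P) (tw' S.X₃ t) q) :=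
  sub₃ (shortExact_tw hS t) q h2 h1

theorem subsingleton_X₁ (h3 : Subsingleton (Coh.HH (P) (tw' S.X₃ t) q))
    (h2 : Subsingleton (Coh.HH (P) (tw' S.X₂ t) (q + 1))) : Subsingleton (Coh.HH (P) (tw' S.X₁ t) (q + 1)) :=
  sub₁ (shortExact_tw hS t) q h3 h2

theorem subsingleton_X₁_of_lifts (hl : Lifts S.g t)
    (h2 : Subsingleton (Coh.HH (P) (tw' S.X₂ t) 1)) : Subsingleton (Coh.HH (P) (tw' S.X₁ t) 1) := by
  refine subsingleton_of_forall_eq 0 fun x => ?_
  obtain ⟨y, rfl⟩ := ((exact_delta_hmap (shortExact_tw hS t) 0) x).1 (@Subsingleton.elim _ h2 _ _)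
  obtain ⟨z, rfl⟩ := surjective_hmap_tw S.g hl y
  exact (exact_hmap_delta (shortExact_tw hS t) 0).apply_apply_eq_zero z

end LES

theorem subsingleton_zero_of_hom {M : (P).Modules} {t : ℤ} (h : ∀ g : O' 2 k (-t) ⟶ M, g = 0) :
    Subsingleton (Coh.HH (P) (tw' M t) 0) := by
  have hz : ∀ x, hmap ((tensorRightF (O' 2 k t)).map (0 : M ⟶ M)) 0 x = 0 := fun x => by
    haveI := Groth.L22.PDual.isEquivalence_tw (n := 2) (k := k) t
    haveI : (tensorRightF (O' 2 k t)).Additive := Functor.additive_of_preserves_binary_products _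
    rw [Functor.map_zero]
    exact (Groth.L21.RR.e0 _).injective (by rw [Groth.L21.RR.e0_hmap, map_zero]; rfl)
  refine subsingleton_of_forall_eq 0 fun x => ?_
  obtain ⟨y, rfl⟩ := surjective_hmap_tw (0 : M ⟶ M) (fun g => ⟨0, by rw [comp_zero, h g]⟩) x
  exact hz y

/-- The duality pairing of `O(-1)^a ⊕ O^b`. -/
theorem injective_comp_tgt (a b : ℕ) {E : (P).Modules} (e : E ≅ tgt k a b) :
    Function.Injective (TensorProduct.lift (Linear.comp (Om1) (OP) E) : _ →ₗ[k] ((Om1) ⟶ E)) := by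
  refine injective_lift_comp (fun j => Sigma.ι (fun _ : Fin b => OP) j ≫ biprod.inr ≫ e.inv)
    (fun j => e.hom ≫ biprod.snd ≫ proj j) (fun i j => by simp [ι_proj]) fun σ => ?_
  have hA : ∀ g : OP ⟶ ∐ fun _ : Fin a => Om1, g = 0 := fun g =>
    Groth.L03.VBPn.CokerSimple.hom_eq_zero_of_twist (tensorUnitRight (OP)) (by
      obtain ⟨z⟩ := nonempty_O_zero 2 k
      exact sub_iso (tensorIso (Iso.refl _) z) 0 (Groth.L22.PDual.subsingleton_sigma_mid
        (fun _ : Fin a => (-1 : ℤ)) (Iso.refl _) 0 fun _ => ⟨by omega, by omega⟩)) g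
  have h1 : σ ≫ e.hom = (σ ≫ e.hom ≫ biprod.snd) ≫ biprod.inr := by
    apply biprod.hom_ext
    · simp [hA (σ ≫ e.hom ≫ biprod.fst)]
    · simp
  choose c hc using fun j : Fin b => exists_smul_O ((σ ≫ e.hom ≫ biprod.snd) ≫ proj j)
  refine ⟨c, (cancel_mono e.hom).1 ?_⟩
  rw [h1, hom_eq_sum (σ ≫ e.hom ≫ biprod.snd)]
  simp only [hc, Preadditive.sum_comp, Linear.smul_comp, Category.id_comp, Category.assoc, Iso.inv_hom_id,
    Category.comp_id]

/-- The cohomological conditions. -/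
def Cond (F : (CohB1.ProjSpace 2 k).Modules) : Prop :=
  Subsingleton (Coh.HH (P) (tw' F (-1)) 0) ∧ Subsingleton (Coh.HH (P) (tw' F (-1)) 2) ∧
    Subsingleton (Coh.HH (P) F 1) ∧ Subsingleton (Coh.HH (P) F 2) ∧
    Subsingleton (Coh.HH (P) (tw' F 1) 1) ∧ Subsingleton (Coh.HH (P) (tw' F 1) 2) ∧
    Function.Injective (TensorProduct.lift (Linear.comp (Om1) (OP) F : _ →ₗ[k] (OP ⟶ F) →ₗ[k] ((Om1) ⟶ F)))

/-- A Gaeta resolution forces the conditions. -/
theorem cond_of_resolution {F : (P).Modules} {α₁ α₂ α₃ : ℕ} {S : ShortComplex (P).Modules} (hS : S.ShortExact)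
    (e₁ : S.X₁ ≅ ∐ fun _ : Fin α₁ => Twist.twistProjSpace 2 k (-2)) (e₂ : S.X₂ ≅ tgt k α₂ α₃) (e₃ : S.X₃ ≅ F) :
    Cond F := by
  have h1 : ∀ (t : ℤ) (q : ℕ), (q = 0 → t < 2) → (q = 2 → -1 < t) →
      Subsingleton (Coh.HH (P) (tw' S.X₁ t) q) := fun t q h0 h2 =>
    Groth.L22.PDual.subsingleton_sigma_mid (fun _ : Fin α₁ => (-2 : ℤ)) e₁ t
      fun _ => ⟨fun h => by have := h0 h.1; omega, fun h => by have := h2 h.1; omega⟩
  have h2 : ∀ (t : ℤ) (q : ℕ), (q = 0 → t < 0) → (q = 2 → -2 < t) →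
      Subsingleton (Coh.HH (P) (tw' S.X₂ t) q) := fun t q h0 h2 =>
    sub_iso (tensorIso e₂.symm (Iso.refl _)) q (subsingleton_tgt α₂ α₃ t q h0 h2)
  have h3 : ∀ (t : ℤ) (q : ℕ), (q = 0 → t < 0) → (q = 2 → -2 < t) → (q = 1 → -1 < t) →
      Subsingleton (Coh.HH (P) (tw' F t) q) := fun t q a b c =>
    sub_iso (tensorIso e₃ (Iso.refl _)) q
      (subsingleton_X₃ hS t q (h2 t q a b) (h1 t (q + 1) (by omega) (fun h => c (by omega))))
  obtain ⟨z⟩ := nonempty_tw_zero F
  refine ⟨h3 _ _ (by omega) (by omega) (by omega), h3 _ _ (by omega) (by omega) (by omega),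
    sub_iso z 1 (h3 _ _ (by omega) (by omega) (by omega)),
    sub_iso z 2 (h3 _ _ (by omega) (by omega) (by omega)),
    h3 _ _ (by omega) (by omega) (by omega), h3 _ _ (by omega) (by omega) (by omega), ?_⟩
  let g : S.X₂ ⟶ F := S.g ≫ e₃.hom
  have hlift : Function.Surjective (Linear.rightComp k (OP) g) := fun σ => by
    have hs : Function.Surjective (hmap S.g 0) := fun y => by
      obtain ⟨z1⟩ := nonempty_tw_zero S.X₁
      exact ((exact_hmap_delta hS 0) y).1 (@Subsingleton.elim _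
        (sub_iso z1 1 (h1 0 1 (by omega) (by omega))) _ _)
    obtain ⟨τ, hτ⟩ := Groth.L22.PDual.exists_lift_section S.g hs (σ ≫ e₃.inv)
    exact ⟨τ, show τ ≫ g = σ by rw [← Category.assoc, hτ, Category.assoc, Iso.inv_hom_id, Category.comp_id]⟩
  refine (injective_iff_map_eq_zero _).2 fun t ht => ?_
  obtain ⟨t', rfl⟩ := LinearMap.lTensor_surjective ((Om1) ⟶ OP) hlift t
  rw [lift_comp_natural] at ht
  have hg : TensorProduct.lift (Linear.comp (Om1) (OP) S.X₂) t' ≫ S.g = 0 := by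
    rw [← cancel_mono e₃.hom, Category.assoc, ht, zero_comp]
  haveI := hS.mono_f
  have hz : TensorProduct.lift (Linear.comp (Om1) (OP) S.X₂) t' = 0 := by
    obtain ⟨a⟩ := nonempty_O_add (n := 2) (R := k) (show (-1 : ℤ) + 1 = 0 by norm_num)
    obtain ⟨b⟩ := nonempty_O_zero 2 k
    rw [← hS.exact.lift_f _ hg, Groth.L03.VBPn.CokerSimple.hom_eq_zero_of_twist (a ≪≫ b)
      (h1 1 0 (by omega) (by omega)) (hS.exact.lift _ hg), zero_comp]
  rw [injective_comp_tgt α₂ α₃ e₂ (hz.trans (map_zero _).symm), map_zero]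

/-- `0`-regular modules with no new cohomology in degree `-1`, `-2` are free. -/
theorem exists_iso_free {G : (P).Modules} (hG : Coh.IsCoh G) (hr : Regular G 0)
    (h0 : Subsingleton (Coh.HH (P) (tw' G (-1)) 0)) (h1 : Subsingleton (Coh.HH (P) (tw' G (-2)) 1)) :
    ∃ a : ℕ, Nonempty (G ≅ ∐ fun _ : Fin a => OP) := by
  obtain ⟨z⟩ := nonempty_O_zero 2 k
  haveI := Groth.L22.PDual.proper 2 k
  haveI : IsLocallyNoetherian (P) := LocallyOfFiniteType.isLocallyNoetherian (P ↘ Spec (CommRingCat.of k))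
  have hO : Coh.IsCoh (OP) := Groth.L18.Ample.isCoh_of_isInvertible (Groth.L18.Ample.isInvertible_structureModule _)
  haveI : Module.Finite k (OP ⟶ G) := Groth.L14.Quot.finite_hom hO hG
  let s := Module.finBasis k (OP ⟶ G)
  let p : (∐ fun _ : Fin (Module.finrank k (OP ⟶ G)) => OP) ⟶ G := Sigma.desc s
  have hl : ∀ σ : OP ⟶ G, ∃ l, l ≫ p = σ := fun σ => ⟨∑ j, s.repr σ j • Sigma.ι (fun _ => OP) j, by
    rw [Preadditive.sum_comp]
    simp only [Linear.smul_comp, p, Sigma.ι_desc]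
    exact s.sum_repr σ⟩
  have hlifts : Lifts p 0 := fun σ => by
    obtain ⟨l, hl⟩ := hl ((eqToIso (by rw [neg_zero]) ≪≫ z : O' 2 k (-0) ≅ OP).inv ≫ σ)
    exact ⟨(eqToIso (by rw [neg_zero]) ≪≫ z : O' 2 k (-0) ≅ OP).hom ≫ l,
      by rw [Category.assoc, hl, Iso.hom_inv_id_assoc]⟩
  haveI : Epi p := epi_of_lifts p (hr.isGloballyGenerated hG le_rfl) hlifts
  let S : ShortComplex (P).Modules := ShortComplex.mk (kernel.ι p) p (kernel.condition p)
  have hS : S.ShortExact := { exact := ShortComplex.exact_kernel p }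
  have hX : ∀ (t : ℤ) (q : ℕ), (q = 2 → -3 < t) → 0 < q → Subsingleton (Coh.HH (P) (tw' S.X₂ t) q) :=
    fun t q h2 hq => Groth.L22.PDual.subsingleton_sigma_mid (fun _ => (0 : ℤ))
      (Sigma.mapIso fun _ => z.symm) t fun _ => ⟨fun h => by omega, fun h => by have := h2 h.1; omega⟩
  haveI := hG.1
  have hN : Coh.IsCoh S.X₁ := Groth.L16.CohSupport.isCoh_kernel
    (Groth.L16.Devissage.isCoh_sigma _ fun _ => hO) p
  haveI := hN.1
  have hNr : Regular S.X₁ 0 := Groth.L22.Reg.regular_of_le_n fun q hq hq2 => by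
    interval_cases q
    · exact subsingleton_X₁ hS _ 0 (by simpa using h0) (hX _ _ (by omega) (by omega))
    · exact subsingleton_X₁ hS _ 1 (by simpa using h1) (hX _ _ (fun _ => by norm_num) (by omega))
  have hzero : ∀ σ : OP ⟶ S.X₁, σ = 0 := fun σ => by
    choose c hc using fun j => exists_smul_O ((σ ≫ S.f) ≫ proj j)
    have h := hom_eq_sum (σ ≫ S.f)
    simp only [hc, Linear.smul_comp, Category.id_comp] at h
    have h' : ∑ j, c j • s j = 0 := by
      have := congrArg (· ≫ p) h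
      simp only [Preadditive.sum_comp, Linear.smul_comp, p, Sigma.ι_desc, S, Category.assoc, kernel.condition,
        comp_zero] at this
      exact this.symm
    have hc0 := Fintype.linearIndependent_iff.1 s.linearIndependent c h'
    haveI := hS.mono_f
    rw [← cancel_mono S.f, zero_comp, h]
    simp [hc0]
  obtain ⟨e⟩ := nonempty_tw_zero S.X₁
  obtain ⟨ι, q, hq⟩ := Groth.L18.Ample.isGloballyGenerated_of_iso e (hNr.isGloballyGenerated hN le_rfl)
  haveI := hq
  have hq0 : q = 0 := Sigma.hom_ext _ _ fun i => by rw [comp_zero]; exact hzero _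
  haveI : Mono p := Preadditive.mono_of_kernel_zero ((IsZero.of_epi_eq_zero q hq0).eq_of_src _ _)
  haveI : IsIso p := isIso_of_mono_of_epi p
  exact ⟨_, ⟨(asIso p).symm⟩⟩

/-- The conditions give a Gaeta resolution. -/
theorem resolution_of_cond {F : (P).Modules} (hF : Coh.IsCoh F) (h : Cond F) :
    ∃ (α₁ α₂ α₃ : ℕ) (S : ShortComplex (P).Modules), S.ShortExact ∧
      Nonempty (S.X₁ ≅ ∐ fun _ : Fin α₁ => Twist.twistProjSpace 2 k (-2)) ∧
      Nonempty (S.X₂ ≅ tgt k α₂ α₃) ∧ Nonempty (S.X₃ ≅ F) := by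
  obtain ⟨-, h12, h01, -, -, -, hinj⟩ := h
  haveI := Groth.L22.PDual.proper 2 k
  haveI : IsLocallyNoetherian (P) := LocallyOfFiniteType.isLocallyNoetherian (P ↘ Spec (CommRingCat.of k))
  have hO : Coh.IsCoh (OP) := Groth.L18.Ample.isCoh_of_isInvertible (Groth.L18.Ample.isInvertible_structureModule _)
  obtain ⟨z⟩ := nonempty_O_zero 2 k
  obtain ⟨uL⟩ : Nonempty (tw' (OP) (-1) ≅ Om1) := ⟨tensorUnitLeft _⟩
  have hL : Coh.IsCoh (Om1 : (P).Modules) :=
    Groth.L14.Quot.isCoh_of_iso uL (Groth.L22.PDual.isCoh_tw hO (-1))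
  haveI : Module.Finite k (OP ⟶ F) := Groth.L14.Quot.finite_hom hO hF
  haveI : Module.Finite k ((Om1) ⟶ F) := Groth.L14.Quot.finite_hom hL hF
  obtain ⟨a, b, w, s, -, hs, hsspan, hsup, hw⟩ := exists_generators (k := k) (L := (Om1 : (P).Modules)) (O := OP) (F := F)
  let π : tgt k a b ⟶ F := biprod.desc (Sigma.desc w) (Sigma.desc s)
  have hlO : ∀ σ : OP ⟶ F, ∃ l, l ≫ π = σ := fun σ => by
    obtain ⟨c, rfl⟩ := (Submodule.mem_span_range_iff_exists_fun k).1 (hsspan.ge (Submodule.mem_top (x := σ)))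
    exact ⟨∑ j, c j • (Sigma.ι (fun _ => OP) j ≫ biprod.inr), by simp [π, Preadditive.sum_comp]⟩
  have hlL : ∀ x : (Om1) ⟶ F, ∃ l, l ≫ π = x := by
    have : LinearMap.range (Linear.rightComp k (Om1) π) = ⊤ := by
      rw [eq_top_iff, ← hsup, sup_le_iff, Submodule.span_le]
      refine ⟨?_, ?_⟩
      · rintro _ ⟨i, rfl⟩
        exact ⟨Sigma.ι (fun _ => Om1) i ≫ biprod.inl, by simp [π]⟩
      · rintro _ ⟨t, rfl⟩
        have hsurj : Function.Surjective (Linear.rightComp k (OP) π) := hlO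
        obtain ⟨t', rfl⟩ := LinearMap.lTensor_surjective ((Om1) ⟶ OP) hsurj t
        exact ⟨_, (lift_comp_natural π t').symm⟩
    exact fun x => LinearMap.range_eq_top.1 this x
  have hlifts1 : Lifts π 1 := hlL
  have hlifts0 : Lifts π 0 := fun σ => by
    obtain ⟨l, hl⟩ := hlO ((eqToIso (by rw [neg_zero]) ≪≫ z : O' 2 k (-0) ≅ OP).inv ≫ σ)
    exact ⟨(eqToIso (by rw [neg_zero]) ≪≫ z : O' 2 k (-0) ≅ OP).hom ≫ l,
      by rw [Category.assoc, hl, Iso.hom_inv_id_assoc]⟩
  obtain ⟨e0⟩ := nonempty_tw_zero F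
  haveI := hF.1
  have hFr : Regular F 1 := Groth.L22.Reg.regular_of_le_n fun q hq hq2 => by
    interval_cases q
    · exact sub_iso e0.symm 1 h01
    · exact h12
  haveI : Epi π := epi_of_lifts π (hFr.isGloballyGenerated hF le_rfl) hlifts1
  let S : ShortComplex (P).Modules := ShortComplex.mk (kernel.ι π) π (kernel.condition π)
  have hS : S.ShortExact := { exact := ShortComplex.exact_kernel π }
  haveI := hS.mono_f
  haveI := hF.1
  have hK : Coh.IsCoh S.X₁ := Groth.L16.CohSupport.isCoh_kernel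
    (Groth.L16.Devissage.isCoh_biprod (Groth.L16.Devissage.isCoh_sigma _ fun _ => hL)
      (Groth.L16.Devissage.isCoh_sigma _ fun _ => hO)) π
  have hzero : ∀ g : O' 2 k (-1) ⟶ S.X₁, g = 0 := fun g => by
    choose c hc using fun i => exists_smul_Om1 (((g ≫ S.f) ≫ biprod.fst) ≫ proj i)
    let ψ : Fin b → ((Om1 : (P).Modules) ⟶ OP) := fun j => ((g ≫ S.f) ≫ biprod.snd) ≫ proj j
    have h1 := hom_eq_sum ((g ≫ S.f) ≫ biprod.fst)
    have h2 := hom_eq_sum ((g ≫ S.f) ≫ biprod.snd)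
    simp only [hc, Linear.smul_comp, Category.id_comp] at h1
    have hgf : g ≫ S.f = (∑ i, c i • Sigma.ι (fun _ => Om1) i) ≫ biprod.inl +
        (∑ j, ψ j ≫ Sigma.ι (fun _ => OP) j) ≫ biprod.inr := by
      apply biprod.hom_ext
      · simp only [Preadditive.add_comp, Category.assoc, biprod.inl_fst, biprod.inr_fst, comp_zero, add_zero,
          Category.comp_id]
        exact h1
      · simp only [Preadditive.add_comp, Category.assoc, biprod.inl_snd, biprod.inr_snd, comp_zero, zero_add,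
          Category.comp_id]
        exact h2
    have h0 : ∑ i, c i • w i + ∑ j, ψ j ≫ s j = 0 := by
      have := congrArg (· ≫ π) hgf
      simp only [S, Category.assoc, kernel.condition, comp_zero, Preadditive.add_comp, π, biprod.inl_desc,
        biprod.inr_desc, Preadditive.sum_comp, Linear.smul_comp, Sigma.ι_desc] at this
      exact this.symm
    have hc0 : c = 0 := hw c ⟨-∑ j, ψ j ⊗ₜ[k] s j, by
      rw [map_neg, map_sum]
      simp only [TensorProduct.lift.tmul]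
      exact (eq_neg_of_add_eq_zero_left h0).symm⟩
    subst hc0
    have hψ : ∑ j, ψ j ⊗ₜ[k] s j = 0 := hinj (by
      rw [map_zero, map_sum]
      simpa using h0)
    have hψ0 : ∀ j, ψ j = 0 := by
      have hz := TensorProduct.sum_tmul_basis_right_eq_zero (R := k) (Module.Basis.mk hs hsspan.ge)
        (Finsupp.equivFunOnFinite.symm ψ)
        (by refine (Finsupp.sum_fintype _ _ fun i => ?_).trans ?_
            · simp
            · simpa [Module.Basis.mk_apply] using hψ)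
      exact fun j => by simpa using DFunLike.congr_fun hz j
    rw [← cancel_mono S.f, zero_comp, hgf]
    simp [hψ0]
  let G := tw' S.X₁ 2
  obtain ⟨t1⟩ := nonempty_tw_tw S.X₁ (show (2 : ℤ) + -1 = 1 by norm_num)
  obtain ⟨t0⟩ := nonempty_tw_tw S.X₁ (show (2 : ℤ) + -2 = 0 by norm_num)
  have hGc : Coh.IsCoh G := Groth.L22.PDual.isCoh_tw hK 2
  haveI := hGc.1
  have hG : Regular G 0 := Groth.L22.Reg.regular_of_le_n fun q hq hq2 => by
    interval_cases q
    · exact sub_iso t1.symm 1 (subsingleton_X₁_of_lifts hS 1 hlifts1 (subsingleton_tgt a b 1 1 (by omega) (by omega)))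
    · exact sub_iso t0.symm 2 (subsingleton_X₁ hS 0 1 (sub_iso e0.symm 1 h01)
        (subsingleton_tgt a b 0 2 (by omega) (by omega)))
  obtain ⟨n, ⟨eG⟩⟩ := exists_iso_free hGc hG (sub_iso t1.symm 0 (subsingleton_zero_of_hom hzero))
    (sub_iso t0.symm 1 (subsingleton_X₁_of_lifts hS 0 hlifts0 (subsingleton_tgt a b 0 1 (by omega) (by omega))))
  obtain ⟨c⟩ := Groth.L22.Reg.nonempty_tensor_sigma (n := 2) (fun _ : Fin n => OP) (O' 2 k (-2))
  obtain ⟨eK⟩ := nonempty_tw_zero S.X₁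
  exact ⟨n, a, b, S, hS, ⟨eK.symm ≪≫ t0.symm ≪≫ tensorIso eG (Iso.refl _) ≪≫ c ≪≫
    Sigma.mapIso fun _ => tensorUnitLeft _⟩, ⟨Iso.refl _⟩, ⟨Iso.refl _⟩⟩

end Groth.L17.Gaeta
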