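import Groth.Agent.L17.Gaeta.VanishIdeal
import Groth.Agent.L17.Gaeta.Main
import Groth.Agent.L24.Degen.Gaeta
import Groth.Agent.L18.ProjSpace
import Groth.Agent.L18.KerReduced
import Groth.Agent.L16.ProjSpace.CoordSect
import Groth.Agent.L16.ProjSpace.QuotTwist
import Groth.Agent.L21.RR.Twist
import Groth.Agent.L29.DCoh.Flat
import Mathlib.LinearAlgebra.Vandermonde
import Mathlib.LinearAlgebra.Lagrange
import Mathlib.LinearAlgebra.Matrix.NonsingularInverse

/-!
A general Gaeta cokernel tensored with the ideal of points on a line has no cohomology.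
-/

set_option autoImplicit false
set_option linter.style.haveILetI false
set_option maxHeartbeats 1000000
set_option backward.isDefEq.respectTransparency.types false
set_option backward.isDefEq.respectTransparency false

universe u

open CategoryTheory CategoryTheory.Limits AlgebraicGeometry TopologicalSpace

noncomputable section

namespace Groth.L17.Gaeta

open Groth.L24.Degen
open Groth.L18.Frame (rs ro IsFrame)
open Groth.L19.ProjBdl (IsBasisOn lc)

section Coefficient

variable {R A : Type u} [CommRing R] [CommRing A] [Algebra R A] {𝒜 : ℕ → Submodule R A} [GradedAlgebra 𝒜]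

/-- The fraction `g / f ^ d` on `D₊(f)`. -/
def frac (f : 𝒜 1) {d : ℕ} (g : 𝒜 d) : Γ(Proj 𝒜, Proj.basicOpen 𝒜 f.1) :=
  Proj.awayToSection 𝒜 f.1 (HomogeneousLocalization.Away.mk 𝒜 f.2 d g.1 (by simp))

theorem mulHom_frac (f : 𝒜 1) (n : ℤ) {d : ℕ} {n' : ℤ} (h : n' = n + d) (g : 𝒜 d) :
    (mulHom n h g).app (Proj.basicOpen 𝒜 f.1) (powFrame f n) =
      (show Γ(Proj 𝒜, Proj.basicOpen 𝒜 f.1) from frac f g) • powFrame f n' := by
  refine Subtype.ext (funext fun x => Subtype.ext ?_)
  show Localization.mk (f.1 ^ n.toNat) _ * formAt g x.1 = _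
  refine Eq.trans ?_ (Twist.coe_smul_val n' x.1
    ((show Twist.O (𝒜 := 𝒜) (Opposite.op (Proj.basicOpen 𝒜 f.1 : Opens (ProjectiveSpectrum.top 𝒜))) from
      frac f g).1 x) _).symm
  rw [mk_mul_formAt]
  show _ = _ * Localization.mk (f.1 ^ n'.toNat) _
  rw [frac]
  erw [ProjectiveSpectrum.Proj.awayToSection_apply]
  rw [HomogeneousLocalization.Away.val_mk, Localization.mk_eq_mk', Localization.mk_eq_mk']
  erw [IsLocalization.map_mk']
  rw [← Localization.mk_eq_mk']
  erw [Localization.mk_mul]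
  rw [Localization.mk_eq_mk_iff, Localization.r_iff_exists]
  refine ⟨1, ?_⟩
  simp only [OneMemClass.coe_one, one_mul, Submonoid.coe_mul, RingHom.id_apply]
  have key : f.1 ^ d * f.1 ^ (-n').toNat * f.1 ^ n.toNat = f.1 ^ n'.toNat * f.1 ^ (-n).toNat := by
    rw [← pow_add, ← pow_add, ← pow_add]
    exact congrArg (f.1 ^ ·) (by omega)
  linear_combination g.1 * key

end Coefficient

theorem homMat_single_smul {X : Scheme.{u}} {L F : X.Modules} {W : X.Opens} {α f : ℕ} {e : Γ(L, W)}
    {c : Fin f → Γ(F, W)} (hc : IsBasisOn F W c) (ψ : L ⟶ F) (y : Fin f) (r : Γ(X, W))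
    (hψ : ψ.app W e = r • c y) (j : Fin α) :
    homMat (coprBasis e) hc (copr j ≫ ψ) = Matrix.single y j r := by
  classical
  ext u v
  show coordEquiv hc (ψ.app W ((copr j).app W (coprBasis e v))) u = _
  rw [copr_app_coprBasis]
  by_cases hv : v = j
  · subst hv
    rw [if_pos rfl, hψ, map_smul, coordEquiv_basis]
    simp [Matrix.single_apply, Pi.single_apply, eq_comm]
  · rw [if_neg hv, map_zero, map_zero]
    simp [Matrix.single_apply, Ne.symm hv]

variable (k : Type u) [Field k]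

local notation "P2" => CohB1.ProjSpace 2 k

/-- The coordinates of a point of the line `x₂ = 0`. -/
def linePt (t : k) : Fin 3 → k := ![1, t, 0]

theorem isUnit_linePt (t : k) : IsUnit (linePt k t 0) := isUnit_one

/-- The chart ring. -/
def chartIso : CommRingCat.of (HomogeneousLocalization.Away (CohB1.polyGrading 2 k) (coordForm k 0).1) ≅
    Γ(CohB1.ProjSpace 2 k, chartW k 0) :=
  Proj.basicOpenIsoAway (CohB1.polyGrading 2 k) (coordForm k 0).1 (coordForm k 0).2 one_pos

theorem chartIso_inv_awayToSection (z : HomogeneousLocalization.Away (CohB1.polyGrading 2 k) (coordForm k 0).1) :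
    (chartIso k).inv (Proj.awayToSection (CohB1.polyGrading 2 k) (coordForm k 0).1 z) = z :=
  congr($((chartIso k).hom_inv_id) z)

/-- The fraction `g / x₀ ^ d`. -/
abbrev frac0 {d : ℕ} (g : CohB1.polyGrading 2 k d) : Γ(CohB1.ProjSpace 2 k, chartW k 0) :=
  frac (coordForm k 0) g

/-- Evaluation at the point `(1 : t : 0)`. -/
def evT (t : k) : Γ(CohB1.ProjSpace 2 k, chartW k 0) →+* k :=
  (Groth.L18.PS.chartHom (RingHom.id k) (linePt k t) 0 (isUnit_linePt k t)).comp
    (chartIso k).inv.hom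

theorem evT_frac (t : k) {d : ℕ} (g : CohB1.polyGrading 2 k d) :
    evT k t (frac0 k g) = MvPolynomial.eval (linePt k t) g.1 := by
  refine (congrArg (Groth.L18.PS.chartHom (RingHom.id k) (linePt k t) 0 (isUnit_linePt k t))
    (chartIso_inv_awayToSection k _)).trans ?_
  have h2 := Groth.L18.PS.awayEval_mk (RingHom.id k) (linePt k t) (MvPolynomial.X 0)
    (Groth.L18.PS.isUnit_eval_X (RingHom.id k) (linePt k t) (isUnit_linePt k t))
    (coordForm k 0).2 d g.1 (by simp)
  rw [MvPolynomial.eval₂Hom_X', show linePt k t 0 = 1 from rfl, one_pow, mul_one] at h2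
  exact h2.trans rfl

theorem sec_eq (lam : k) :
    sec ((P2) ↘ Spec (CommRingCat.of k)) (chartW k 0) lam =
      Proj.awayToSection (CohB1.polyGrading 2 k) (coordForm k 0).1 (Groth.L18.PS.chartScalar 2 k 0 lam) := by
  let ι := Groth.L16.ProjSpace.chartAway 2 k 0
  have hW : ⊤ ≤ ι ⁻¹ᵁ chartW k 0 := fun x _ => by
    show ι x ∈ chartW k 0
    exact (Proj.opensRange_awayι (CohB1.polyGrading 2 k) _ (Groth.L16.ProjSpace.X_mem 2 k 0) one_pos).le ⟨x, rfl⟩
  have hi := Groth.L16.ProjSpace.chartAway_appLE (n := 2) (R := k) 0 hW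
  have hι : ι ≫ ((P2) ↘ Spec (CommRingCat.of k)) = Spec.map (CommRingCat.ofHom (Groth.L18.PS.chartScalar 2 k 0)) := by
    show Proj.awayι _ _ _ _ ≫ Proj.toSpecZero _ ≫ Spec.map _ = _
    rw [Proj.awayι_toSpecZero_assoc, ← Spec.map_comp]
    rfl
  have hinj : Function.Injective (ι.appLE (chartW k 0) ⊤ hW) := by
    intro a b hab
    let e := chartIso k
    have ha : ∀ z, ι.appLE (chartW k 0) ⊤ hW z = (Scheme.ΓSpecIso _).inv (e.inv z) := fun z => by
      exact (congrArg _ (congr($(e.inv_hom_id) z)).symm).trans (congr($hi (e.inv z)))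
    rw [ha, ha] at hab
    exact (ConcreteCategory.bijective_of_isIso e.inv).1 ((ConcreteCategory.bijective_of_isIso (Scheme.ΓSpecIso _).inv).1 hab)
  refine hinj (Eq.trans ?_ (congr($hi (Groth.L18.PS.chartScalar 2 k 0 lam))).symm)
  show ((((P2) ↘ Spec (CommRingCat.of k)).appLE ⊤ (chartW k 0) le_top) ≫ ι.appLE (chartW k 0) ⊤ hW)
    ((Scheme.ΓSpecIso (CommRingCat.of k)).inv lam) = _
  rw [Scheme.Hom.appLE_comp_appLE]
  erw [hι]
  refine Eq.trans ?_ (congr($(Scheme.ΓSpecIso_inv_naturality (CommRingCat.ofHom (Groth.L18.PS.chartScalar 2 k 0))) lam)).symm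
  exact congr($(Scheme.Hom.app_eq_appLE (Spec.map (CommRingCat.ofHom (Groth.L18.PS.chartScalar 2 k 0)))) _).symm

theorem evT_sec (t lam : k) : evT k t (sec ((P2) ↘ Spec (CommRingCat.of k)) (chartW k 0) lam) = lam := by
  rw [sec_eq, evT, RingHom.comp_apply]
  refine Eq.trans ?_ (Groth.L18.PS.chartHom_algebraMap (RingHom.id k) (linePt k t) 0 (isUnit_linePt k t) lam)
  exact congrArg _ (chartIso_inv_awayToSection k _)

theorem surjective_evT (t : k) : Function.Surjective (evT k t) := fun lam => ⟨_, evT_sec k t lam⟩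

/-- The point `(1 : t : 0)`. -/
def zPt (t : k) : P2 :=
  (isAffineOpen_chartW k 0).fromSpec
    ⟨RingHom.ker (evT k t), (RingHom.ker_isMaximal_of_surjective _ (surjective_evT k t)).isPrime⟩

theorem zPt_mem (t : k) : zPt k t ∈ chartW k 0 := (isAffineOpen_chartW k 0).range_fromSpec.le ⟨_, rfl⟩

theorem isClosed_zPt (t : k) : IsClosed ({zPt k t} : Set (P2)) := by
  let pt : Spec (CommRingCat.of k) ⟶ P2 := Spec.map (CommRingCat.ofHom (evT k t)) ≫ (isAffineOpen_chartW k 0).fromSpec
  have h1 : pt ≫ ((P2) ↘ Spec (CommRingCat.of k)) = 𝟙 _ := by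
    rw [Category.assoc, fromSpec_comp, ← Spec.map_comp, ← Spec.map_id]
    congr 1
    ext lam
    exact evT_sec k t lam
  haveI := Groth.L22.PDual.proper 2 k
  haveI : IsClosedImmersion (pt ≫ ((P2) ↘ Spec (CommRingCat.of k))) := by rw [h1]; infer_instance
  haveI : IsClosedImmersion pt := IsClosedImmersion.of_comp pt ((P2) ↘ Spec (CommRingCat.of k))
  have h2 : Set.range pt = {zPt k t} := by
    ext y
    constructor
    · rintro ⟨x, rfl⟩
      rw [Set.mem_singleton_iff]
      show (isAffineOpen_chartW k 0).fromSpec _ = _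
      refine congrArg _ (PrimeSpectrum.ext ?_)
      show Ideal.comap (evT k t) x.asIdeal = RingHom.ker (evT k t)
      rw [(Ideal.eq_bot_or_top x.asIdeal).resolve_right x.isPrime.ne_top, RingHom.ker]
    · rintro rfl
      refine ⟨⟨⊥, Ideal.isPrime_bot⟩, ?_⟩
      show (isAffineOpen_chartW k 0).fromSpec _ = _
      exact congrArg _ (PrimeSpectrum.ext rfl)
  exact h2 ▸ (Scheme.Hom.isClosedEmbedding pt).isClosed_range

theorem zPt_injective : Function.Injective (zPt k) := by
  intro t s h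
  have h' := congrArg PrimeSpectrum.asIdeal ((isAffineOpen_chartW k 0).fromSpec.isOpenEmbedding.injective h)
  let x1 := frac0 k (coordForm k 1)
  have he : ∀ u, evT k u x1 = u := fun u => by
    rw [evT_frac]
    simp [coordForm, linePt]
  have h3 : x1 - sec ((P2) ↘ Spec (CommRingCat.of k)) (chartW k 0) t ∈ RingHom.ker (evT k t) := by
    rw [RingHom.mem_ker, map_sub, he, evT_sec, sub_self]
  rw [show RingHom.ker (evT k t) = RingHom.ker (evT k s) from h', RingHom.mem_ker, map_sub, he, evT_sec,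
    sub_eq_zero] at h3
  exact h3.symm

section Points

variable {ℓ : ℕ} (t : Fin ℓ → k)

/-- The points as a closed set. -/
def ptSet : Closeds (P2) :=
  ⟨Set.range fun i => zPt k (t i), by
    rw [show (Set.range fun i => zPt k (t i)) = ⋃ i, {zPt k (t i)} by ext; simp [eq_comm]]
    exact isClosed_iUnion_of_finite fun i => isClosed_zPt k _⟩

/-- Their ideal. -/
def ptsI : (P2).IdealSheafData := Scheme.IdealSheafData.vanishingIdeal (ptSet k t)

theorem support_ptsI : ((ptsI k t).support : Set (P2)) = Set.range fun i => zPt k (t i) :=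
  Scheme.IdealSheafData.coe_support_vanishingIdeal (ptSet k t)

theorem mem_ideal_ptsI (f : Γ(P2, chartW k 0)) :
    f ∈ (ptsI k t).ideal ⟨chartW k 0, isAffineOpen_chartW k 0⟩ ↔ ∀ i, evT k (t i) f = 0 := by
  rw [ptsI, Scheme.IdealSheafData.vanishingIdeal_ideal]
  constructor
  · intro hf i
    have := (PrimeSpectrum.mem_vanishingIdeal _ _).1 hf
      ⟨RingHom.ker (evT k (t i)), (RingHom.ker_isMaximal_of_surjective _ (surjective_evT k (t i))).isPrime⟩ ⟨i, rfl⟩
    exact RingHom.mem_ker.1 this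
  · intro hf
    refine (PrimeSpectrum.mem_vanishingIdeal _ _).2 fun p hp => ?_
    obtain ⟨i, hi⟩ := hp
    have := (isAffineOpen_chartW k 0).fromSpec.isOpenEmbedding.injective hi
    subst this
    exact RingHom.mem_ker.2 (hf i)

theorem natCard_ptsI (ht : Function.Injective t) : Nat.card (ptsI k t).subscheme = ℓ := by
  rw [← Nat.card_range_of_injective (ptsI k t).subschemeι.isClosedEmbedding.injective,
    Scheme.IdealSheafData.range_subschemeι, support_ptsI,
    Nat.card_range_of_injective (f := fun i => zPt k (t i)) ((zPt_injective k).comp ht), Nat.card_fin]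

theorem suppClosed_ptsI : Groth.L21.RR.SuppClosed (ClSub.quotMod (ptsI k t)) := fun x hx =>
  Groth.L21.RR.subsingleton_stalk_quotMod _ fun h => hx (by
    rw [support_ptsI] at h
    obtain ⟨i, rfl⟩ := h
    exact isClosed_zPt k _)

theorem subsingleton_stalk_off (x : P2) (hx : x ∉ chartW k 0) :
    Subsingleton ((ClSub.quotMod (ptsI k t)).presheaf.stalk x) :=
  Groth.L21.RR.subsingleton_stalk_quotMod _ fun h => hx (by
    rw [support_ptsI] at h
    obtain ⟨i, rfl⟩ := h
    exact zPt_mem k _)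

theorem mem_inIdeal_iff {M : (P2).Modules} {n : ℕ} {c : Fin n → Γ(M, chartW k 0)}
    (hc : IsBasisOn M (chartW k 0) c) (m : Γ(M, chartW k 0)) :
    m ∈ inIdeal (ptsI k t) M (isAffineOpen_chartW k 0) ↔ ∀ i r, evT k (t i) (coordEquiv hc m r) = 0 := by
  constructor
  · intro h
    refine Submodule.smul_induction_on h (fun a ha x _ i r => ?_) fun x y hx hy i r => ?_
    · rw [map_smul, Pi.smul_apply, smul_eq_mul, map_mul, (mem_ideal_ptsI k t a).1 ha i, zero_mul]
    · rw [map_add, Pi.add_apply, map_add, hx, hy, add_zero]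
  · intro h
    rw [← (coordEquiv hc).symm_apply_apply m, coordEquiv_symm_apply]
    exact Submodule.sum_mem _ fun r _ =>
      Submodule.smul_mem_smul ((mem_ideal_ptsI k t _).2 fun i => h i r) Submodule.mem_top

end Points

section Linear

variable (a c e ℓ : ℕ)

/-- Constants in the free part. -/
def incl (v : Fin c → k) : Fin (a + c) → k := fun row => Sum.elim 0 v (finSumFinEquiv.symm row)

theorem castAdd_ne_natAdd {a c : ℕ} (x : Fin a) (y : Fin c) : Fin.castAdd c x ≠ Fin.natAdd a y := fun h => by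
  have := congrArg Fin.val h
  simp only [Fin.val_castAdd, Fin.val_natAdd] at this
  have := x.2
  omega

/-- The matrix of the evaluation map. -/
def bigMat {S : Type u} [CommRing S] (N : Fin ℓ → Matrix (Fin (a + c)) (Fin e) S) :
    Matrix (Fin ℓ × Fin (a + c)) (Fin c ⊕ Fin ℓ × Fin e) S :=
  Matrix.of fun p q => Sum.elim (fun y => if p.2 = finSumFinEquiv (Sum.inr y) then 1 else 0)
    (fun q' => if q'.1 = p.1 then N p.1 p.2 q'.2 else 0) q

theorem bigMat_mulVec (N : Fin ℓ → Matrix (Fin (a + c)) (Fin e) k) (u : Fin c ⊕ Fin ℓ × Fin e → k)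
    (i : Fin ℓ) (row : Fin (a + c)) :
    (bigMat a c e ℓ N).mulVec u (i, row) =
      incl k a c (fun y => u (Sum.inl y)) row + (N i).mulVec (fun j => u (Sum.inr (i, j))) row := by
  simp only [Matrix.mulVec, dotProduct, bigMat, Matrix.of_apply, Fintype.sum_sum_type, Sum.elim_inl, Sum.elim_inr]
  congr 1
  · obtain ⟨(x | x), rfl⟩ := finSumFinEquiv.surjective row
    · simp [incl, castAdd_ne_natAdd]
    · simp [incl]
  · rw [Fintype.sum_prod_type, Finset.sum_eq_single i (fun j _ hj => by simp [hj]) (by simp)]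
    simp

theorem bigMat_map {S T : Type u} [CommRing S] [CommRing T] (g : S →+* T)
    (N : Fin ℓ → Matrix (Fin (a + c)) (Fin e) S) :
    (bigMat a c e ℓ N).map g = bigMat a c e ℓ fun i => (N i).map g := by
  ext p q
  rcases q with y | q <;> simp [bigMat, apply_ite g]

theorem exists_det_poly {m : ℕ} (N₀ : Fin m → Fin ℓ → Matrix (Fin (a + c)) (Fin e) k)
    (hcard : c + ℓ * e = ℓ * (a + c)) (w₀ : Fin m → k)
    (hinj : Function.Injective (bigMat a c e ℓ fun i => ∑ l, w₀ l • N₀ l i).mulVec) :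
    ∃ q : MvPolynomial (Fin m) k, q ≠ 0 ∧ ∀ w : Fin m → k, MvPolynomial.eval w q ≠ 0 →
      Function.Bijective (bigMat a c e ℓ fun i => ∑ l, w l • N₀ l i).mulVec := by
  classical
  let σ : Fin ℓ × Fin (a + c) ≃ Fin c ⊕ Fin ℓ × Fin e :=
    Fintype.equivOfCardEq (by simp [hcard])
  let q := ((bigMat a c e ℓ fun i => ∑ l, (MvPolynomial.X l : MvPolynomial (Fin m) k) •
    (N₀ l i).map (MvPolynomial.C : k →+* MvPolynomial (Fin m) k)).submatrix id σ).det
  have hev : ∀ w : Fin m → k, MvPolynomial.eval w q =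
      ((bigMat a c e ℓ fun i => ∑ l, w l • N₀ l i).submatrix id σ).det := fun w => by
    rw [RingHom.map_det, RingHom.mapMatrix_apply, ← Matrix.submatrix_map, bigMat_map]
    congr 3
    funext i
    ext r j
    simp [Matrix.sum_apply]
  have hsub : ∀ (w : Fin m → k) (v : Fin ℓ × Fin (a + c) → k),
      ((bigMat a c e ℓ fun i => ∑ l, w l • N₀ l i).submatrix id σ).mulVec v =
        (bigMat a c e ℓ fun i => ∑ l, w l • N₀ l i).mulVec (v ∘ σ.symm) := fun w v => by
    rw [Matrix.submatrix_mulVec_equiv]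
    rfl
  refine ⟨q, fun h0 => ?_, fun w hw => ?_⟩
  · have h := (Matrix.mulVec_injective_iff_isUnit
      (A := (bigMat a c e ℓ fun i => ∑ l, w₀ l • N₀ l i).submatrix id σ)).1 fun v v' hv => by
      rw [hsub, hsub] at hv
      exact σ.symm.surjective.injective_comp_right (hinj hv)
    rw [Matrix.isUnit_iff_isUnit_det, ← hev, h0, map_zero] at h
    exact not_isUnit_zero h
  · rw [hev] at hw
    have h := (Matrix.isUnit_iff_isUnit_det _).2 hw.isUnit
    refine ⟨fun u u' hu => ?_, fun y => ?_⟩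
    · have := Matrix.mulVec_injective_of_isUnit h (a₁ := u ∘ σ) (a₂ := u' ∘ σ) (by
        simp only [hsub, Function.comp_assoc, Equiv.self_comp_symm, Function.comp_id]
        exact hu)
      exact σ.surjective.injective_comp_right this
    · obtain ⟨v, hv⟩ := Matrix.mulVec_surjective_iff_isUnit.2 h y
      exact ⟨v ∘ σ.symm, by rw [← hsub]; exact hv⟩

/-- The recursion killing the kernel at the standard member. -/
theorem eq_zero_of_recursion {L : ℕ} (τ : Fin (L + 1) → k) (hτ : Function.Injective τ) (v : Fin (L + 1) → k)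
    (W : Fin (L + 1) → ℕ → k) (hW : ∀ i p, L ≤ p → W i p = 0)
    (h : ∀ i (p : Fin (L + 1)), v p + τ i * W i p - (if p.1 = 0 then 0 else W i (p.1 - 1)) = 0) :
    v = 0 ∧ ∀ i p, W i p = 0 := by
  have h1 : ∀ i, ∑ p : Fin (L + 1), v p * τ i ^ (p : ℕ) = 0 := fun i => by
    have hs : ∀ p : Fin (L + 1), v p * τ i ^ (p : ℕ) =
        (fun q => -(if q = 0 then 0 else τ i ^ q * W i (q - 1))) (p.1 + 1) -
          (fun q => -(if q = 0 then 0 else τ i ^ q * W i (q - 1))) p.1 := fun p => by
      have hp := h i p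
      show _ = -(if p.1 + 1 = 0 then 0 else τ i ^ (p.1 + 1) * W i (p.1 + 1 - 1)) -
        -(if p.1 = 0 then 0 else τ i ^ p.1 * W i (p.1 - 1))
      rw [if_neg (Nat.succ_ne_zero _), Nat.add_sub_cancel]
      split_ifs at hp ⊢ <;> linear_combination τ i ^ p.1 * hp
    rw [Finset.sum_congr rfl fun p _ => hs p, Fin.sum_univ_eq_sum_range
      (fun p => (fun q => -(if q = 0 then 0 else τ i ^ q * W i (q - 1))) (p + 1) -
          (fun q => -(if q = 0 then 0 else τ i ^ q * W i (q - 1))) p) (L + 1)]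
    rw [Finset.sum_range_sub (fun q => -(if q = 0 then 0 else τ i ^ q * W i (q - 1)))]
    simp [hW i L le_rfl]
  have hv : v = 0 := Matrix.eq_zero_of_forall_index_sum_mul_pow_eq_zero hτ h1
  refine ⟨hv, fun i => ?_⟩
  suffices ∀ d p, L ≤ p + d → W i p = 0 from fun p => this L p (Nat.le_add_left _ _)
  intro d
  induction d with
  | zero => exact fun p hp => hW i p hp
  | succ d ih =>
    intro p hp
    by_cases hpL : L ≤ p
    · exact hW i p hpL
    have := h i ⟨p + 1, by omega⟩
    simp only [hv, Pi.zero_apply, Nat.succ_ne_zero, if_false, Nat.add_sub_cancel, zero_add] at this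
    rw [ih (p + 1) (by omega), mul_zero, zero_sub, neg_eq_zero] at this
    exact this

end Linear

section Member

variable (a e c : ℕ)

theorem unitInv_app : haveI := isIso_unitHom k
    (inv (Groth.L16.homOfSection (Twist.twistProjSpace 2 k 0) (unitSec k))).app (chartW k 0)
      (powFrame (coordForm k 0) 0) = (1 : Γ(P2, chartW k 0)) := by
  haveI := isIso_unitHom k
  rw [← unitHom_app]
  exact app_comp_eq _ _ (𝟙 _) (IsIso.hom_inv_id _) _ _

theorem exists_hom_fst (g : CohB1.polyGrading 2 k 1) (x : Fin a) (j : Fin e) :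
    ∃ ψ : srcMod k e ⟶ tgtMod k a c, homMat (srcBasis k e 0) (isBasis_tgt k a c 0) ψ =
      Matrix.single (finSumFinEquiv (Sum.inl x)) j (frac0 k g) := by
  refine ⟨copr j ≫ mulHom (-2) (d := 1) (n' := -1) (by norm_num) g ≫
    Sigma.ι (fun _ : Fin a => Twist.twistProjSpace 2 k (-1)) x ≫ biprod.inl, homMat_single_smul _ _ _ _ ?_ j⟩
  show (biprod.inl : _ ⟶ tgtMod k a c).app _ ((Sigma.ι (fun _ : Fin a => Twist.twistProjSpace 2 k (-1)) x).app _
    ((mulHom (-2) (d := 1) (n' := -1) (by norm_num) g).app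
      (Proj.basicOpen (CohB1.polyGrading 2 k) (coordForm k 0).1) (powFrame (coordForm k 0) (-2)))) = _
  rw [mulHom_frac, Scheme.Modules.Hom.app_smul, Scheme.Modules.Hom.app_smul]
  simp [tgtBasis, biBasis]
  rfl

theorem exists_hom_snd (g : CohB1.polyGrading 2 k 2) (y : Fin c) (j : Fin e) :
    ∃ ψ : srcMod k e ⟶ tgtMod k a c, homMat (srcBasis k e 0) (isBasis_tgt k a c 0) ψ =
      Matrix.single (finSumFinEquiv (Sum.inr y)) j (frac0 k g) := by
  haveI := isIso_unitHom k
  refine ⟨copr j ≫ (mulHom (-2) (d := 2) (n' := 0) (by norm_num) g :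
    Twist.twistProjSpace 2 k (-2) ⟶ Twist.twistProjSpace 2 k 0) ≫
    inv (Groth.L16.homOfSection (Twist.twistProjSpace 2 k 0) (unitSec k)) ≫
    Sigma.ι (fun _ : Fin c => Coh.structureModule (P2)) y ≫ biprod.inr, homMat_single_smul _ _ _ _ ?_ j⟩
  show (biprod.inr : _ ⟶ tgtMod k a c).app _ ((Sigma.ι (fun _ : Fin c => Coh.structureModule (P2)) y).app _
    ((inv (Groth.L16.homOfSection (Twist.twistProjSpace 2 k 0) (unitSec k))).app _
      ((mulHom (-2) (d := 2) (n' := 0) (by norm_num) g).app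
        (Proj.basicOpen (CohB1.polyGrading 2 k) (coordForm k 0).1) (powFrame (coordForm k 0) (-2))))) = _
  rw [mulHom_frac]
  show (biprod.inr : _ ⟶ tgtMod k a c).app (chartW k 0) ((Sigma.ι (fun _ : Fin c => Coh.structureModule (P2)) y).app
    (chartW k 0) ((inv (Groth.L16.homOfSection (Twist.twistProjSpace 2 k 0) (unitSec k))).app (chartW k 0)
      (_ • powFrame (coordForm k 0) 0))) = _
  rw [Scheme.Modules.Hom.app_smul, unitInv_app, Scheme.Modules.Hom.app_smul, Scheme.Modules.Hom.app_smul]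
  simp [tgtBasis, biBasis]
  rfl

theorem homMat_add {X : Scheme.{u}} {E F : X.Modules} {W : X.Opens} {e f : ℕ} (b : Fin e → Γ(E, W))
    {d : Fin f → Γ(F, W)} (hd : IsBasisOn F W d) (φ ψ : E ⟶ F) :
    homMat b hd (φ + ψ) = homMat b hd φ + homMat b hd ψ := by
  ext i j
  show coordEquiv hd ((φ + ψ).app W (b j)) i = _
  rw [show (φ + ψ).app W (b j) = φ.app W (b j) + ψ.app W (b j) from rfl, map_add]
  rfl

theorem exists_sum {ι : Type} [Fintype ι] (M : ι → Matrix (Fin (a + c)) (Fin e) Γ(P2, chartW k 0))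
    (h : ∀ x, ∃ ψ : srcMod k e ⟶ tgtMod k a c, homMat (srcBasis k e 0) (isBasis_tgt k a c 0) ψ = M x) :
    ∃ ψ : srcMod k e ⟶ tgtMod k a c, homMat (srcBasis k e 0) (isBasis_tgt k a c 0) ψ = ∑ x, M x := by
  choose ψ hψ using h
  refine ⟨∑ x, ψ x, ?_⟩
  rw [Finset.sum_congr rfl fun x _ => (hψ x).symm]
  exact map_sum (AddMonoidHom.mk' (homMat (srcBasis k e 0) (isBasis_tgt k a c 0)) (homMat_add _ _)) ψ _

/-- A member which fills the points of a line. -/
theorem exists_member (r L : ℕ) (hc : c = (L + 1) * r) (he : e = a + L * r) (τ : Fin (L + 1) → k)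
    (hτ : Function.Injective τ) :
    ∃ φ : srcMod k e ⟶ tgtMod k a c, Function.Injective (bigMat a c e (L + 1) fun i =>
      (homMat (srcBasis k e 0) (isBasis_tgt k a c 0) φ).map (evT k (τ i))).mulVec := by
  classical
  subst hc he
  let colA : Fin a → Fin (a + L * r) := fun x => finSumFinEquiv (Sum.inl x)
  let colC : Fin L × Fin r → Fin (a + L * r) := fun q => finSumFinEquiv (Sum.inr (finProdFinEquiv q))
  let rowA : Fin a → Fin (a + (L + 1) * r) := fun x => finSumFinEquiv (Sum.inl x)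
  let rowC : Fin (L + 1) × Fin r → Fin (a + (L + 1) * r) := fun q => finSumFinEquiv (Sum.inr (finProdFinEquiv q))
  have hX : ∀ i, (MvPolynomial.X i : MvPolynomial (Fin 3) k) ∈ CohB1.polyGrading 2 k 1 :=
    Groth.L16.ProjSpace.X_mem 2 k
  let g1 : CohB1.polyGrading 2 k 1 := ⟨MvPolynomial.X 0, hX 0⟩
  let g2 : CohB1.polyGrading 2 k 2 := ⟨MvPolynomial.X 0 * MvPolynomial.X 1, SetLike.mul_mem_graded (hX 0) (hX 1)⟩
  let g3 : CohB1.polyGrading 2 k 2 := ⟨-(MvPolynomial.X 0 * MvPolynomial.X 0),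
    neg_mem (SetLike.mul_mem_graded (hX 0) (hX 0))⟩
  obtain ⟨ψA, hA⟩ := exists_sum k a _ _ _ fun x : Fin a => exists_hom_fst k a _ ((L + 1) * r) g1 x (colA x)
  obtain ⟨ψB, hB⟩ := exists_sum k a _ _ _ fun q : Fin L × Fin r =>
    exists_hom_snd k a _ ((L + 1) * r) g2 (finProdFinEquiv (q.1.castSucc, q.2)) (colC q)
  obtain ⟨ψC, hC⟩ := exists_sum k a _ _ _ fun q : Fin L × Fin r =>
    exists_hom_snd k a _ ((L + 1) * r) g3 (finProdFinEquiv (q.1.succ, q.2)) (colC q)
  refine ⟨ψA + ψB + ψC, ?_⟩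
  rw [homMat_add, homMat_add, hA, hB, hC]
  have hmat : ∀ (i : Fin (L + 1)) (w : Fin (a + L * r) → k) (row : Fin (a + (L + 1) * r)),
      (((∑ x, Matrix.single (rowA x) (colA x) (frac0 k g1)) +
        (∑ q : Fin L × Fin r, Matrix.single (rowC (q.1.castSucc, q.2)) (colC q) (frac0 k g2)) +
        ∑ q : Fin L × Fin r, Matrix.single (rowC (q.1.succ, q.2)) (colC q) (frac0 k g3)).map
          (evT k (τ i))).mulVec w row =
      (∑ x, if rowA x = row then w (colA x) else 0) +
        (∑ q : Fin L × Fin r, if rowC (q.1.castSucc, q.2) = row then τ i * w (colC q) else 0) +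
        ∑ q : Fin L × Fin r, if rowC (q.1.succ, q.2) = row then -w (colC q) else 0 := by
    intro i w row
    rw [Matrix.map_add _ (map_add (evT k (τ i))), Matrix.map_add _ (map_add (evT k (τ i)))]
    simp only [Matrix.add_mulVec, Pi.add_apply]
    congr 1
    congr 1
    all_goals
      rw [show ∀ {ι : Type} [Fintype ι] (M : ι → Matrix (Fin (a + (L + 1) * r)) (Fin (a + L * r)) Γ(P2, chartW k 0)),
        (∑ x, M x).map (evT k (τ i)) = ∑ x, (M x).map (evT k (τ i)) from fun M =>
          map_sum (evT k (τ i)).toAddMonoidHom.mapMatrix M _, Matrix.sum_mulVec, Finset.sum_apply]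
      refine Finset.sum_congr rfl fun x _ => ?_
      rw [Matrix.map_single, evT_frac, Matrix.single_mulVec]
      simp only [g1, g2, g3, Function.update_apply, Pi.zero_apply, eq_comm (a := row)]
      split_ifs <;> simp [linePt]
  refine fun u u' huu => sub_eq_zero.1 ?_
  have hz := (sub_eq_zero.2 huu)
  rw [← Matrix.mulVec_sub] at hz
  generalize u - u' = d at hz ⊢
  have hrow : ∀ i row, incl k a ((L + 1) * r) (fun y => d (Sum.inl y)) row +
      ((∑ x, if rowA x = row then d (Sum.inr (i, colA x)) else 0) +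
        (∑ q : Fin L × Fin r, if rowC (q.1.castSucc, q.2) = row then τ i * d (Sum.inr (i, colC q)) else 0) +
        ∑ q : Fin L × Fin r, if rowC (q.1.succ, q.2) = row then -d (Sum.inr (i, colC q)) else 0) = 0 := fun i row => by
    have := congrFun hz (i, row)
    rw [bigMat_mulVec, hmat] at this
    exact this
  have hA0 : ∀ i x, d (Sum.inr (i, colA x)) = 0 := fun i x => by
    have := hrow i (rowA x)
    simpa [incl, rowA, rowC, (castAdd_ne_natAdd _ _).symm] using this
  let W : Fin r → Fin (L + 1) → ℕ → k := fun s i p =>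
    if hp : p < L then d (Sum.inr (i, colC (⟨p, hp⟩, s))) else 0
  have hC0 : ∀ s i (p : Fin (L + 1)), d (Sum.inl (finProdFinEquiv (p, s))) + τ i * W s i p -
      (if p.1 = 0 then 0 else W s i (p.1 - 1)) = 0 := by
    intro s i p
    have hrc := hrow i (rowC (p, s))
    refine Eq.trans ?_ hrc
    have e1 : (∑ x, if rowA x = rowC (p, s) then d (Sum.inr (i, colA x)) else 0) = 0 :=
      Finset.sum_eq_zero fun x _ => if_neg (by simp [rowA, rowC, castAdd_ne_natAdd])
    have e2 : (∑ q : Fin L × Fin r, if rowC (q.1.castSucc, q.2) = rowC (p, s) then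
        τ i * d (Sum.inr (i, colC q)) else 0) = τ i * W s i p := by
      by_cases hp : p.1 < L
      · rw [Finset.sum_eq_single (⟨p.1, hp⟩, s) (fun q _ hq => if_neg fun h => hq ?_) (by simp)]
        · simp [W, hp]
        · have := finProdFinEquiv.injective (Sum.inr_injective (finSumFinEquiv.injective h))
          simp only [Prod.mk.injEq] at this
          exact Prod.ext (Fin.ext (by simpa using congrArg Fin.val this.1)) this.2
      · rw [Finset.sum_eq_zero fun q _ => if_neg fun h => ?_]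
        · simp [W, hp]
        · have := finProdFinEquiv.injective (Sum.inr_injective (finSumFinEquiv.injective h))
          simp only [Prod.mk.injEq] at this
          exact hp (by have := congrArg Fin.val this.1; simp at this; omega)
    have e3 : (∑ q : Fin L × Fin r, if rowC (q.1.succ, q.2) = rowC (p, s) then
        -d (Sum.inr (i, colC q)) else 0) = -(if p.1 = 0 then 0 else W s i (p.1 - 1)) := by
      by_cases hp : p.1 = 0
      · rw [if_pos hp, neg_zero]
        refine Finset.sum_eq_zero fun q _ => if_neg fun h => ?_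
        have := finProdFinEquiv.injective (Sum.inr_injective (finSumFinEquiv.injective h))
        simp only [Prod.mk.injEq] at this
        have := congrArg Fin.val this.1
        simp at this
        omega
      · have hp' : p.1 - 1 < L := by omega
        rw [if_neg hp, Finset.sum_eq_single (⟨p.1 - 1, hp'⟩, s) (fun q _ hq => if_neg fun h => hq ?_) (by simp)]
        · rw [show ((⟨p.1 - 1, hp'⟩ : Fin L).succ, s) = (p, s) from Prod.ext (Fin.ext (by simp; omega)) rfl,
            if_pos rfl]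
          simp [W, hp']
        · have := finProdFinEquiv.injective (Sum.inr_injective (finSumFinEquiv.injective h))
          simp only [Prod.mk.injEq] at this
          exact Prod.ext (Fin.ext (by have := congrArg Fin.val this.1; simp at this ⊢; omega)) this.2
    rw [e1, e2, e3]
    simp [incl, rowC]
    ring
  have hrec := fun s => eq_zero_of_recursion k τ hτ (fun p => d (Sum.inl (finProdFinEquiv (p, s)))) (W s)
    (fun i p hp => dif_neg (by omega)) (hC0 s)
  funext z
  obtain y | ⟨i, j⟩ := z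
  · obtain ⟨⟨p, s⟩, rfl⟩ := finProdFinEquiv.surjective y
    exact congrFun (hrec s).1 p
  · obtain ⟨(x | y), rfl⟩ := finSumFinEquiv.surjective j
    · exact hA0 i x
    · obtain ⟨⟨p, s⟩, rfl⟩ := finProdFinEquiv.surjective y
      have := (hrec s).2 i p.1
      simp only [W, dif_pos p.2] at this
      exact this

end Member

section Sections

variable (a c : ℕ)

theorem sec_eq_ro (lam : k) :
    sec ((P2) ↘ Spec (CommRingCat.of k)) (chartW k 0) lam =
      ro (le_top : chartW k 0 ≤ ⊤) (Coh.toGlobal ((P2) ↘ Spec (CommRingCat.of k)) lam) := rfl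

/-- Global sections of `O(-1)^a ⊕ O^c` in the frames of the chart. -/
theorem global_tgt [IsAlgClosed k] [CharZero k] :
    (∀ b : Γ(tgtMod k a c, ⊤), ∃ v : Fin c → k,
      (∀ (t : k) row, evT k t (coordEquiv (isBasis_tgt k a c 0) (rs _ le_top b) row) = incl k a c v row) ∧
        (v = 0 → b = 0)) ∧
    ∀ v : Fin c → k, ∃ b : Γ(tgtMod k a c, ⊤),
      ∀ (t : k) row, evT k t (coordEquiv (isBasis_tgt k a c 0) (rs _ le_top b) row) = incl k a c v row := by
  classical
  obtain ⟨z⟩ := Groth.L22.Reg.nonempty_tw_zero (∐ fun _ : Fin a => Twist.twistProjSpace 2 k (-1))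
  haveI hH : Subsingleton (Coh.HH (P2) (∐ fun _ : Fin a => Twist.twistProjSpace 2 k (-1)) 0) :=
    sub_iso z 0 (Groth.L22.PDual.subsingleton_sigma_mid (fun _ : Fin a => (-1 : ℤ)) (Iso.refl _) 0
      fun _ => ⟨fun h => by omega, fun h => by omega⟩)
  haveI : Subsingleton Γ((∐ fun _ : Fin a => Twist.twistProjSpace 2 k (-1) : (P2).Modules), ⊤) :=
    (Groth.L21.RR.e0 _).symm.toEquiv.subsingleton
  have hg : Function.Bijective (Coh.toGlobal ((P2) ↘ Spec (CommRingCat.of k))) :=
    Groth.L16.ProjSpace.toGlobal_bijective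
  have key : ∀ (b : Γ(tgtMod k a c, ⊤)) (v : Fin c → k),
      (∀ y, (biprod.snd ≫ copr y : tgtMod k a c ⟶ Coh.structureModule (P2)).app ⊤ b =
        Coh.toGlobal ((P2) ↘ Spec (CommRingCat.of k)) (v y)) →
      ∀ (t : k) row, evT k t (coordEquiv (isBasis_tgt k a c 0) (rs _ le_top b) row) = incl k a c v row := by
    intro b v hv t row
    set zz := coordEquiv (isBasis_tgt k a c 0) (rs _ (le_top : chartW k 0 ≤ ⊤) b) with hzz
    have hlc : lc _ (tgtBasis k a c 0) le_rfl zz = rs _ (le_top : chartW k 0 ≤ ⊤) b := by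
      rw [lc, ← (coordEquiv (isBasis_tgt k a c 0)).symm_apply_apply (rs _ (le_top : chartW k 0 ≤ ⊤) b),
        coordEquiv_symm_apply, ← hzz]
      simp [Groth.L18.Frame.rs_self]
    obtain ⟨h1, h2⟩ := fst_lc (coprBasis (L := Twist.twistProjSpace 2 k (-1)) (powFrame (coordForm k 0) (-1)))
      (coprBasis (L := Coh.structureModule (P2)) (1 : Γ(P2, chartW k 0))) (le_refl (chartW k 0)) zz
    rw [hlc] at h1 h2
    obtain ⟨(x | y), rfl⟩ := finSumFinEquiv.surjective row
    · have h0 : lc _ (coprBasis (L := Twist.twistProjSpace 2 k (-1)) (powFrame (coordForm k 0) (-1))) (le_refl _)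
          (fun x => zz (finSumFinEquiv (Sum.inl x))) = 0 := by
        rw [← h1, Groth.L16.EpiFrames.app_rs, Subsingleton.elim ((biprod.fst : tgtMod k a c ⟶ _).app ⊤ b) 0]
        exact rs_zero _ _
      have := congrFun (((isBasis_fst k a 0) (chartW k 0) le_rfl).1
        (h0.trans (by simp [lc] : (0 : Γ((∐ fun _ : Fin a => Twist.twistProjSpace 2 k (-1) : (P2).Modules), chartW k 0)) =
          lc _ (coprBasis (L := Twist.twistProjSpace 2 k (-1)) (powFrame (coordForm k 0) (-1))) (le_refl _) 0))) x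
      simp only [Pi.zero_apply] at this
      rw [this, map_zero]
      simp [incl]
    · have h3 : (copr y).app (chartW k 0) (lc _ (coprBasis (L := Coh.structureModule (P2)) (1 : Γ(P2, chartW k 0)))
          (le_refl _) fun y => zz (finSumFinEquiv (Sum.inr y))) = zz (finSumFinEquiv (Sum.inr y)) := by
        simp only [lc, map_sum, Scheme.Modules.Hom.app_smul, Groth.L18.Frame.rs_self, copr_app_coprBasis]
        rw [Finset.sum_eq_single y (fun i _ hi => by rw [if_neg hi, smul_zero]) (by simp), if_pos rfl]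
        exact mul_one (show Γ(P2, chartW k 0) from zz (finSumFinEquiv (Sum.inr y)))
      rw [← h2] at h3
      have h4 : zz (finSumFinEquiv (Sum.inr y)) = ro (le_top : chartW k 0 ≤ ⊤)
          (Coh.toGlobal ((P2) ↘ Spec (CommRingCat.of k)) (v y)) := by
        rw [← h3, app_comp_eq _ _ _ rfl, Groth.L16.EpiFrames.app_rs, hv y]
        rfl
      rw [h4, ← sec_eq_ro, evT_sec]
      simp [incl]
  refine ⟨fun b => ?_, fun v => ?_⟩
  · choose v hv using fun y => hg.2 ((biprod.snd ≫ copr y : tgtMod k a c ⟶ Coh.structureModule (P2)).app ⊤ b)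
    refine ⟨v, key b v fun y => (hv y).symm, fun h0 => ?_⟩
    have hsnd : (biprod.snd : tgtMod k a c ⟶ _).app ⊤ b = 0 := by
      let T : ((∐ fun _ : Fin c => Coh.structureModule (P2) : (P2).Modules) ⟶ ∐ fun _ : Fin c => Coh.structureModule (P2)) →+
          Γ((∐ fun _ : Fin c => Coh.structureModule (P2) : (P2).Modules), ⊤) :=
        AddMonoidHom.mk' (fun ψ => ψ.app ⊤ ((biprod.snd : tgtMod k a c ⟶ _).app ⊤ b)) fun _ _ => rfl
      show T (𝟙 _) = 0
      rw [← copr_total, map_sum]
      refine Finset.sum_eq_zero fun y _ => ?_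
      show (Sigma.ι (fun _ : Fin c => Coh.structureModule (P2)) y).app ⊤
        ((biprod.snd ≫ copr y : tgtMod k a c ⟶ Coh.structureModule (P2)).app ⊤ b) = 0
      rw [← hv y, h0, Pi.zero_apply, map_zero]
      exact map_zero _
    rw [← biprod_total_app ⊤ b, hsnd, Subsingleton.elim ((biprod.fst : tgtMod k a c ⟶ _).app ⊤ b) 0,
      map_zero, map_zero, add_zero]
  · refine ⟨(biprod.inr : _ ⟶ tgtMod k a c).app ⊤ (∑ y, (Sigma.ι (fun _ : Fin c => Coh.structureModule (P2)) y).app ⊤
      (Coh.toGlobal ((P2) ↘ Spec (CommRingCat.of k)) (v y))), key _ v fun y => ?_⟩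
    rw [← app_comp_eq _ _ _ rfl, app_comp_eq _ _ _ biprod.inr_snd]
    show (copr y).app ⊤ (∑ i, (Sigma.ι (fun _ : Fin c => Coh.structureModule (P2)) i).app ⊤
      (Coh.toGlobal ((P2) ↘ Spec (CommRingCat.of k)) (v i))) = _
    rw [map_sum, Finset.sum_eq_single y (fun i _ hi => by
      rw [app_comp_eq _ _ _ (ι_copr i y), if_neg hi]; rfl) (by simp), app_comp_eq _ _ _ (ι_copr y y), if_pos rfl]
    rfl

end Sections

section Main

variable [IsAlgClosed k] [CharZero k]

theorem general_vanishing (α₁ α₂ α₃ r ℓ : ℕ) (hℓ : 1 ≤ ℓ) (h₃ : α₃ = ℓ * r) (h₁ : α₁ = α₂ + (ℓ - 1) * r) :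
    ∃ (m : ℕ) (co : (srcMod k α₁ ⟶ tgtMod k α₂ α₃) ≃ₗ[k] (Fin m → k)) (p : MvPolynomial (Fin m) k), p ≠ 0 ∧
      ∀ φ : srcMod k α₁ ⟶ tgtMod k α₂ α₃, MvPolynomial.eval (co φ) p ≠ 0 →
        Mono φ ∧ ∃ Z : (P2).IdealSheafData, IsReduced Z.subscheme ∧ Nat.card Z.subscheme = ℓ ∧
          ∀ i : ℕ, Subsingleton (Coh.HH (P2) (CohB1.tensorMod (cokernel φ) (ClSub.idealMod Z)) i) := by
  classical
  obtain ⟨L, rfl⟩ : ∃ L, ℓ = L + 1 := ⟨ℓ - 1, by omega⟩
  rw [Nat.add_sub_cancel] at h₁
  have hrr : (L + 1) * r = L * r + r := Nat.succ_mul L r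
  obtain ⟨p, hp0, hp⟩ := exists_poly_gaeta k α₁ α₂ α₃ (by omega)
  let τ : Fin (L + 1) → k := fun i => ((i : ℕ) : k)
  have hτ : Function.Injective τ := Nat.cast_injective.comp Fin.val_injective
  let B := (homBasis k α₁ α₂ α₃).2
  let N₀ := fun l i => (homMat (srcBasis k α₁ 0) (isBasis_tgt k α₂ α₃ 0) (B l)).map (evT k (τ i))
  have hN : ∀ (φ : srcMod k α₁ ⟶ tgtMod k α₂ α₃) i,
      (homMat (srcBasis k α₁ 0) (isBasis_tgt k α₂ α₃ 0) φ).map (evT k (τ i)) = ∑ l, B.equivFun φ l • N₀ l i := by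
    intro φ i
    conv_lhs => rw [← B.sum_equivFun φ, homMat_sum]
    ext y j
    simp [Matrix.sum_apply, N₀, evT_sec]
  obtain ⟨φ₀, hφ₀⟩ := exists_member k α₂ α₁ α₃ r L h₃ h₁ τ hτ
  simp only [hN φ₀] at hφ₀
  obtain ⟨q, hq0, hq⟩ := exists_det_poly k α₂ α₃ α₁ (L + 1) N₀
    (by rw [h₃, h₁]; ring) _ hφ₀
  refine ⟨_, B.equivFun, p * q, mul_ne_zero hp0 hq0, fun φ hφ => ?_⟩
  rw [map_mul, mul_ne_zero_iff] at hφ
  obtain ⟨-, -, hmono⟩ := hp φ hφ.1
  haveI := hmono
  have hbij := hq _ hφ.2
  simp only [← hN φ] at hbij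
  refine ⟨hmono, ptsI k τ, Groth.L18.isReduced_vanishingIdeal_subscheme _, natCard_ptsI k τ hτ, fun i => ?_⟩
  haveI : IsLocallyNoetherian (P2) := by
    haveI := (plane_facts k).2.1
    exact LocallyOfFiniteType.isLocallyNoetherian ((P2) ↘ Spec (CommRingCat.of k))
  haveI := (plane_facts k).2.2.1
  haveI := Groth.L21.RR.isNoetherian_of_proper (X := P2) k
  haveI := (qcoh_src_tgt k α₁ α₂ α₃).1.1
  haveI := (qcoh_src_tgt k α₁ α₂ α₃).2.1
  have hflat : FlatMod.IsFlat (srcMod k α₁) ∧ FlatMod.IsFlat (tgtMod k α₂ α₃) :=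
    ⟨Groth.L29.DC.isFlat_of_isFinLocFree (Groth.L16.HomSh.isFinLocFree_of_bases fun x => by
        obtain ⟨i, hi⟩ := exists_mem_chartW k x
        exact ⟨_, _, _, hi, isBasis_src k α₁ i⟩),
      Groth.L29.DC.isFlat_of_isFinLocFree (Groth.L16.HomSh.isFinLocFree_of_bases fun x => by
        obtain ⟨i, hi⟩ := exists_mem_chartW k x
        exact ⟨_, _, _, hi, isBasis_tgt k α₂ α₃ i⟩)⟩
  let hb := isBasis_src k α₁ 0
  let hc := isBasis_tgt k α₂ α₃ 0
  let M := homMat (srcBasis k α₁ 0) hc φ
  have happ : ∀ (s : Γ(srcMod k α₁, chartW k 0)) (i : Fin (L + 1)) (row : Fin (α₂ + α₃)),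
      evT k (τ i) (coordEquiv hc (φ.app _ s) row) =
        (M.map (evT k (τ i))).mulVec (fun j => evT k (τ i) (coordEquiv hb s j)) row := by
    intro s i row
    conv_lhs => rw [← (coordEquiv hb).symm_apply_apply s, coordEquiv_symm_apply, app_eq_mulVec hc,
      LinearEquiv.apply_symm_apply]
    exact RingHom.map_mulVec _ _ _ _
  have hA0 : ∀ q, Subsingleton (Coh.HH (P2) (srcMod k α₁) q) := fun q => by
    obtain ⟨z⟩ := Groth.L22.Reg.nonempty_tw_zero (srcMod k α₁)
    exact sub_iso z q (Groth.L22.PDual.subsingleton_sigma_mid (fun _ : Fin α₁ => (-2 : ℤ)) (Iso.refl _) 0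
      fun _ => ⟨fun h => by omega, fun h => by omega⟩)
  have hB1 : ∀ q, Subsingleton (Coh.HH (P2) (tgtMod k α₂ α₃) (q + 1)) := fun q => by
    obtain ⟨z⟩ := Groth.L22.Reg.nonempty_tw_zero (tgtMod k α₂ α₃)
    exact sub_iso z _ (subsingleton_tgt α₂ α₃ 0 (q + 1) (fun h => absurd h (Nat.succ_ne_zero q)) fun _ => by norm_num)
  refine subsingleton_coker_tensor_ideal (ptsI k τ) φ hflat.1 hflat.2 (suppClosed_ptsI k τ)
    (isAffineOpen_chartW k 0) (subsingleton_stalk_off k τ) hA0 hB1 (fun b s h => ?_) (fun u => ?_) i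
  · obtain ⟨v, hv, hv0⟩ := (global_tgt k α₂ α₃).1 b
    have h' := (mem_inIdeal_iff k τ hc _).1 h
    let w : Fin α₃ ⊕ Fin (L + 1) × Fin α₁ → k :=
      Sum.elim v fun p => evT k (τ p.1) (coordEquiv hb s p.2)
    have hw : (bigMat α₂ α₃ α₁ (L + 1) fun i => M.map (evT k (τ i))).mulVec w = 0 := by
      funext ⟨i, row⟩
      rw [bigMat_mulVec, Pi.zero_apply]
      have := h' i row
      rw [map_add, Pi.add_apply, map_add, hv, happ] at this
      exact this
    have hw0 : w = 0 := hbij.1 (hw.trans (Matrix.mulVec_zero _).symm)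
    exact ⟨hv0 (funext fun y => congrFun hw0 (Sum.inl y)),
      (mem_inIdeal_iff k τ hb s).2 fun i j => congrFun hw0 (Sum.inr (i, j))⟩
  · obtain ⟨w, hw⟩ := hbij.2 fun p => evT k (τ p.1) (coordEquiv hc u p.2)
    obtain ⟨b, hb'⟩ := (global_tgt k α₂ α₃).2 fun y => w (Sum.inl y)
    -- interpolate the values on the points
    have hlag : ∀ f : Fin (L + 1) → k, ∃ x : Γ(P2, chartW k 0), ∀ i, evT k (τ i) x = f i := by
      intro f
      let x1 := frac0 k (coordForm k 1)
      let P := Lagrange.interpolate Finset.univ τ f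
      refine ⟨P.eval₂ (sec ((P2) ↘ Spec (CommRingCat.of k)) (chartW k 0)) x1, fun i => ?_⟩
      rw [Polynomial.hom_eval₂, show (evT k (τ i)).comp (sec ((P2) ↘ Spec (CommRingCat.of k)) (chartW k 0)) =
        RingHom.id k from RingHom.ext (evT_sec k _), show evT k (τ i) x1 = τ i by rw [evT_frac]; simp [coordForm, linePt]]
      exact Lagrange.eval_interpolate_at_node _ hτ.injOn (Finset.mem_univ i)
    choose x hx using fun j => hlag fun i => w (Sum.inr (i, j))
    refine ⟨b, (coordEquiv hb).symm x, (mem_inIdeal_iff k τ hc _).2 fun i row => ?_⟩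
    rw [map_sub, Pi.sub_apply, map_sub, map_add, Pi.add_apply, map_add, hb', happ]
    simp only [LinearEquiv.apply_symm_apply, hx]
    rw [← bigMat_mulVec k α₂ α₃ α₁ (L + 1) (fun i => M.map (evT k (τ i))) w i row, hw, sub_self]

end Main

end Groth.L17.Gaeta
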