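import Mathlib.CategoryTheory.Linear.Basic
import Mathlib.CategoryTheory.Limits.Shapes.Products
import Mathlib.CategoryTheory.Preadditive.Basic
import Mathlib.LinearAlgebra.Dimension.Free
import Mathlib.LinearAlgebra.Basis.VectorSpace
import Mathlib.LinearAlgebra.TensorProduct.Basic

/-!
Composition of homomorphism spaces in linear categories with constant endomorphisms.
-/

set_option autoImplicit false

universe u v w

open CategoryTheory CategoryTheory.Limits

noncomputable section

namespace Groth.L17.Gaeta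

variable {k : Type w} [Field k] {C : Type u} [Category.{v} C] [Preadditive C] [Linear k C] {L O : C}

section Coprod

variable {a : ℕ} [HasCoproduct fun _ : Fin a => O]

/-- The projections of a finite coproduct. -/
def proj (j : Fin a) : (∐ fun _ : Fin a => O) ⟶ O := Sigma.desc fun i => if i = j then 𝟙 O else 0

theorem ι_proj (i j : Fin a) : Sigma.ι (fun _ : Fin a => O) i ≫ proj j = if i = j then 𝟙 O else 0 :=
  Sigma.ι_desc _ _

theorem hom_eq_sum {X : C} (φ : X ⟶ ∐ fun _ : Fin a => O) :
    φ = ∑ j, (φ ≫ proj j) ≫ Sigma.ι (fun _ : Fin a => O) j := by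
  have h : ∑ j, proj (O := O) j ≫ Sigma.ι (fun _ : Fin a => O) j = 𝟙 _ := by
    refine Sigma.hom_ext _ _ fun i => ?_
    rw [Category.comp_id, Preadditive.comp_sum, Finset.sum_eq_single i (fun j _ hj => by
      rw [← Category.assoc, ι_proj, if_neg (Ne.symm hj), zero_comp]) (by simp),
      ← Category.assoc, ι_proj, if_pos rfl, Category.id_comp]
  conv_lhs => rw [← Category.comp_id φ, ← h, Preadditive.comp_sum]
  simp [Category.assoc]

end Coprod

theorem lift_comp_natural {E F : C} (g : E ⟶ F) (t : TensorProduct k (L ⟶ O) (O ⟶ E)) :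
    TensorProduct.lift (Linear.comp L O F) ((Linear.rightComp k O g).lTensor (L ⟶ O) t) =
      TensorProduct.lift (Linear.comp L O E) t ≫ g := by
  induction t using TensorProduct.induction_on with
  | zero => simp
  | tmul ψ σ => simp [Category.assoc]
  | add x y hx hy => simp [map_add, hx, hy]

/-- Composition is injective when `Hom(O, E)` has a dual family. -/
theorem injective_lift_comp {E : C} {a : ℕ} (b : Fin a → (O ⟶ E)) (p : Fin a → (E ⟶ O))
    (hbp : ∀ i j, b i ≫ p j = if i = j then 𝟙 O else 0) (hspan : ∀ σ : O ⟶ E, ∃ c : Fin a → k, σ = ∑ j, c j • b j) :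
    Function.Injective (TensorProduct.lift (Linear.comp L O E) : _ →ₗ[k] (L ⟶ E)) := by
  have key : ∀ t : TensorProduct k (L ⟶ O) (O ⟶ E), ∃ ψ : Fin a → (L ⟶ O), t = ∑ j, ψ j ⊗ₜ[k] b j := fun t => by
    induction t using TensorProduct.induction_on with
    | zero => exact ⟨0, by simp⟩
    | tmul ψ σ =>
      obtain ⟨c, rfl⟩ := hspan σ
      refine ⟨fun j => c j • ψ, ?_⟩
      rw [TensorProduct.tmul_sum]
      simp [TensorProduct.tmul_smul, TensorProduct.smul_tmul']
    | add x y hx hy =>
      obtain ⟨ψ, rfl⟩ := hx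
      obtain ⟨ψ', rfl⟩ := hy
      exact ⟨ψ + ψ', by simp [TensorProduct.add_tmul, Finset.sum_add_distrib]⟩
  refine (injective_iff_map_eq_zero _).2 fun t ht => ?_
  obtain ⟨ψ, rfl⟩ := key t
  refine Finset.sum_eq_zero fun i _ => ?_
  have h : (∑ j, ψ j ≫ b j) ≫ p i = 0 := by
    rw [map_sum] at ht
    rw [show (∑ j, ψ j ≫ b j) = 0 from (Finset.sum_congr rfl fun j _ => by simp).trans ht, zero_comp]
  rw [Preadditive.sum_comp, Finset.sum_eq_single i (fun j _ hj => by rw [Category.assoc, hbp, if_neg hj, comp_zero])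
    (by simp), Category.assoc, hbp, if_pos rfl, Category.comp_id] at h
  rw [h, TensorProduct.zero_tmul]

/-- Complement generators of `Hom(L, F)` modulo composition through `Hom(O, F)`. -/
theorem exists_generators {F : C} [Module.Finite k (O ⟶ F)] [Module.Finite k (L ⟶ F)] :
    ∃ (a b : ℕ) (w : Fin a → (L ⟶ F)) (s : Fin b → (O ⟶ F)), LinearIndependent k w ∧ LinearIndependent k s ∧
      Submodule.span k (Set.range s) = ⊤ ∧
      Submodule.span k (Set.range w) ⊔ LinearMap.range (TensorProduct.lift (Linear.comp L O F) : _ →ₗ[k] (L ⟶ F)) = ⊤ ∧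
      ∀ c : Fin a → k, ∑ i, c i • w i ∈ LinearMap.range (TensorProduct.lift (Linear.comp L O F) : _ →ₗ[k] (L ⟶ F)) →
        c = 0 := by
  let R := LinearMap.range (TensorProduct.lift (Linear.comp L O F) : _ →ₗ[k] (L ⟶ F))
  obtain ⟨D, hD⟩ := Submodule.exists_isCompl R
  let bD := Module.finBasis k D
  let bs := Module.finBasis k (O ⟶ F)
  have hw : LinearIndependent k fun i => ((bD i : D) : L ⟶ F) :=
    bD.linearIndependent.map' D.subtype (Submodule.ker_subtype _)
  have hspan : Submodule.span k (Set.range fun i => ((bD i : D) : L ⟶ F)) = D := by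
    rw [show (Set.range fun i => ((bD i : D) : L ⟶ F)) = D.subtype '' Set.range bD from Set.range_comp D.subtype bD,
      Submodule.span_image, bD.span_eq, Submodule.map_top, Submodule.range_subtype]
  refine ⟨_, _, _, bs, hw, bs.linearIndependent, bs.span_eq, by rw [hspan, sup_comm]; exact hD.sup_eq_top,
    fun c hc => ?_⟩
  have h0 : ∑ i, c i • ((bD i : D) : L ⟶ F) = 0 :=
    Submodule.disjoint_def.1 hD.disjoint _ hc (D.sum_mem fun i _ => D.smul_mem _ (bD i).2)
  exact funext (Fintype.linearIndependent_iff.1 hw c h0)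

end Groth.L17.Gaeta
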