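import Groth.Agent.L09.ResGen.Tens
import Groth.Agent.L00.TensorColim
import Groth.Agent.L16.FrameIso
import Groth.Agent.L16.Rees.Consequences
import Groth.Agent.L17.BC.Cochains
import Groth.Agent.L17.DeligneHom
import Groth.Agent.L17.FlatPair.TensAffine
import Groth.Agent.L18.AffineApps
import Groth.Agent.L18.PicLefInj
import Groth.Agent.L19.ConormalBasis
import Groth.Agent.L21.RR.Finite
import Groth.Agent.L22.Reg.Chase

/-!
Cohomology of a cokernel tensored with the ideal of finitely many closed points.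
-/

set_option autoImplicit false
set_option linter.style.haveILetI false
set_option backward.isDefEq.respectTransparency.types false
set_option backward.isDefEq.respectTransparency false

universe u

open CategoryTheory CategoryTheory.Limits AlgebraicGeometry TopologicalSpace

noncomputable section

namespace Groth.L17.Gaeta

open Groth.L18.Frame (rs)
open Groth.L18.GenLoc (tens tens_smul_right)
open Groth.L00.Tensor (tensorMap tensorUnitRight tensorRightF)
open Groth.L16.CohLinear (hmap delta exact_hmap_delta exact_delta_hmap exact_hmap_hmap)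
open Groth.L21.RR (e0 e0_hmap)

variable {X : Scheme.{u}} (I : X.IdealSheafData)

/-- `M → M ⊗ O/I` -/
def toQuot (M : X.Modules) : M ⟶ CohB1.tensorMod M (ClSub.quotMod I) :=
  (tensorUnitRight M).inv ≫ tensorMap (𝟙 M) (ClSub.toSubscheme I)

/-- `M ⊗ I → M` -/
def ofIdeal (M : X.Modules) : CohB1.tensorMod M (ClSub.idealMod I) ⟶ M :=
  tensorMap (𝟙 M) (ClSub.idealModι I) ≫ (tensorUnitRight M).hom

theorem unitRight_inv (M : X.Modules) (U : X.Opens) (m : Γ(M, U)) :
    (tensorUnitRight M).inv.app U m = tens M (Coh.structureModule X) U m (1 : Γ(X, U)) := by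
  have h : (tensorUnitRight M).hom.app U (tens M (Coh.structureModule X) U m (1 : Γ(X, U))) = m := by
    rw [Groth.L09.ResGen.unitRight_tens, one_smul]
  conv_lhs => rw [← h]
  exact congr($(congrArg (fun k => Scheme.Modules.Hom.app k U) (tensorUnitRight M).hom_inv_id) _)

theorem toQuot_app (M : X.Modules) (U : X.Opens) (m : Γ(M, U)) :
    (toQuot I M).app U m =
      tens M (ClSub.quotMod I) U m ((ClSub.toSubscheme I).app U (1 : Γ(X, U))) := by
  show (tensorMap (𝟙 M) (ClSub.toSubscheme I)).app U ((tensorUnitRight M).inv.app U m) = _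
  rw [unitRight_inv, Groth.L09.ResGen.tensorMap_tens]
  rfl

theorem ofIdeal_tens (M : X.Modules) (U : X.Opens) (m : Γ(M, U)) (r : Γ(ClSub.idealMod I, U)) :
    (ofIdeal I M).app U (tens M _ U m r) = (show Γ(X, U) from (ClSub.idealModι I).app U r) • m := by
  show (tensorUnitRight M).hom.app U ((tensorMap (𝟙 M) (ClSub.idealModι I)).app U (tens M _ U m r)) = _
  rw [Groth.L09.ResGen.tensorMap_tens, Groth.L09.ResGen.unitRight_tens]
  rfl

theorem toQuot_nat {M N : X.Modules} (f : M ⟶ N) :
    f ≫ toQuot I N = toQuot I M ≫ tensorMap f (𝟙 _) := by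
  apply Scheme.Modules.hom_ext
  intro U
  ext m
  show (toQuot I N).app U (f.app U m) = (tensorMap f (𝟙 _)).app U ((toQuot I M).app U m)
  rw [toQuot_app, toQuot_app, Groth.L09.ResGen.tensorMap_tens]
  rfl

theorem ofIdeal_nat {M N : X.Modules} (f : M ⟶ N) :
    tensorMap f (𝟙 _) ≫ ofIdeal I N = ofIdeal I M ≫ f := by
  refine Groth.L09.ResGen.hom_ext_tens _ _ fun U m r => ?_
  show (ofIdeal I N).app U ((tensorMap f (𝟙 _)).app U (tens M _ U m r)) = f.app U ((ofIdeal I M).app U (tens M _ U m r))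
  rw [Groth.L09.ResGen.tensorMap_tens, ofIdeal_tens, ofIdeal_tens, Scheme.Modules.Hom.app_smul]
  rfl

theorem ofIdeal_toQuot (M : X.Modules) : ofIdeal I M ≫ toQuot I M = 0 := by
  rw [ofIdeal, toQuot, Category.assoc, Iso.hom_inv_id_assoc, ← Groth.L00.Tensor.tensorMap_comp,
    Category.comp_id, show ClSub.idealModι I ≫ ClSub.toSubscheme I = 0 from kernel.condition _]
  refine Groth.L09.ResGen.hom_ext_tens _ _ fun U m r => ?_
  rw [Groth.L09.ResGen.tensorMap_tens]
  exact (map_zero (TensorProduct.mk Γ(X, U) Γ(M, U) Γ(ClSub.quotMod I, U) m) |> congrArg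
    (Groth.L17.FlatPair.secTens M (ClSub.quotMod I) U)).trans (map_zero _)

theorem shortExact_quot {M : X.Modules} (hM : FlatMod.IsFlat M) :
    (ShortComplex.mk (ofIdeal I M) (toQuot I M) (ofIdeal_toQuot I M)).ShortExact := by
  have h := Groth.L16.FrameIso.shortExact_tensor_left hM _ (Groth.L21.RR.shortExact_idealSeq I)
  have e : ∀ {N N' : X.Modules} (g : N ⟶ N'), ((DCoh.tensorBi (X := X)).obj M).map g = tensorMap (𝟙 M) g :=
    fun g => by
      refine congrArg (Groth.L00.Tensor.shf X).map ?_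
      rw [CategoryTheory.Functor.map_id]
      exact (MonoidalCategory.id_tensorHom _ _).symm
  refine ShortComplex.shortExact_of_iso
    (show (ShortComplex.mk (ClSub.idealModι I) (ClSub.toSubscheme I) (kernel.condition _)).map
        ((DCoh.tensorBi (X := X)).obj M) ≅ ShortComplex.mk (ofIdeal I M) (toQuot I M) (ofIdeal_toQuot I M) from
      ShortComplex.isoMk (Iso.refl _) (tensorUnitRight M) (Iso.refl _) ?_ ?_) h
  · show 𝟙 _ ≫ ofIdeal I M = ((DCoh.tensorBi (X := X)).obj M).map (ClSub.idealModι I) ≫ (tensorUnitRight M).hom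
    rw [e, Category.id_comp, ofIdeal]
  · show (tensorUnitRight M).hom ≫ toQuot I M = ((DCoh.tensorBi (X := X)).obj M).map (ClSub.toSubscheme I) ≫ 𝟙 _
    rw [e, Category.comp_id, toQuot, Iso.hom_inv_id_assoc]

/-- Sections killed in `M ⊗ O/I`. -/
def inIdeal (M : X.Modules) {W : X.Opens} (hW : IsAffineOpen W) : Submodule Γ(X, W) Γ(M, W) :=
  I.ideal ⟨W, hW⟩ • ⊤

theorem toQuot_eq_zero_iff {M : X.Modules} [Coh.IsQCoh M] (hM : FlatMod.IsFlat M) {W : X.Opens} (hW : IsAffineOpen W)
    (m : Γ(M, W)) : (toQuot I M).app W m = 0 ↔ m ∈ inIdeal I M hW := by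
  haveI := Groth.L18.AffineCrit.isQCoh_quotMod I
  haveI := Groth.L19.ConormalBasis.isQCoh_idealMod I
  haveI := Groth.L00.Tensor.isQCoh_tensorMod M (ClSub.idealMod I)
  haveI := Groth.L00.Tensor.isQCoh_tensorMod M (ClSub.quotMod I)
  constructor
  · intro h
    obtain ⟨a, rfl⟩ := Groth.L17.BC.Cochains.exact_app (S := ShortComplex.mk _ _ (ofIdeal_toQuot I M))
      (shortExact_quot I hM).exact hW m h
    obtain ⟨t, rfl⟩ := (Groth.L17.FlatPair.bijective_secTens M (ClSub.idealMod I) hW).2 a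
    induction t using TensorProduct.induction_on with
    | zero => rw [map_zero, map_zero]; exact zero_mem _
    | add x y hx hy =>
      rw [map_add, map_add]
      refine add_mem (hx ?_) (hy ?_) <;>
        exact congr($(congrArg (fun k => Scheme.Modules.Hom.app k W) (ofIdeal_toQuot I M)) _)
    | tmul x r =>
      rw [Groth.L17.FlatPair.secTens_tmul, ofIdeal_tens]
      refine Submodule.smul_mem_smul ?_ Submodule.mem_top
      refine ((Groth.L18.PicLefInj.toSubscheme_app I hW).2 _).1 ?_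
      exact congr($(congrArg (fun k => Scheme.Modules.Hom.app k W) (kernel.condition (ClSub.toSubscheme I))) r)
  · intro h
    refine Submodule.smul_induction_on h (fun r hr x _ => ?_) fun x y hx hy => by rw [map_add, hx, hy, add_zero]
    rw [Scheme.Modules.Hom.app_smul, toQuot_app, ← tens_smul_right,
      ← Scheme.Modules.Hom.app_smul]
    rw [show r • (show Γ(Coh.structureModule X, W) from (1 : Γ(X, W))) = r from mul_one r,
      ((Groth.L18.PicLefInj.toSubscheme_app I hW).2 r).2 hr]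
    exact (map_zero (TensorProduct.mk Γ(X, W) Γ(M, W) Γ(ClSub.quotMod I, W) x) |> congrArg
      (Groth.L17.FlatPair.secTens M (ClSub.quotMod I) W)).trans (map_zero _)

theorem surjective_toQuot_app {M : X.Modules} [Coh.IsQCoh M] (hM : FlatMod.IsFlat M) {W : X.Opens}
    (hW : IsAffineOpen W) : Function.Surjective ((toQuot I M).app W) := by
  haveI := Groth.L18.AffineCrit.isQCoh_quotMod I
  haveI := Groth.L00.Tensor.isQCoh_tensorMod M (ClSub.quotMod I)
  haveI : Epi (toQuot I M) := (shortExact_quot I hM).epi_g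
  exact Groth.L16.AffineBC.surjective_app_of_epi (toQuot I M) hW

section Supp

theorem subsingleton_stalk_tensor (M : X.Modules) {x : X}
    (h : Subsingleton ((ClSub.quotMod I).presheaf.stalk x)) :
    Subsingleton ((CohB1.tensorMod M (ClSub.quotMod I)).presheaf.stalk x) := by
  haveI : Subsingleton ((Groth.L00.Stk.F X x).obj (ClSub.quotMod I)) := h
  haveI : Subsingleton (TensorProduct (X.presheaf.stalk x) ((Groth.L00.Stk.F X x).obj M)
      ((Groth.L00.Stk.F X x).obj (ClSub.quotMod I))) :=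
    subsingleton_of_forall_eq 0 fun t => by
      induction t using TensorProduct.induction_on with
      | zero => rfl
      | tmul a b => rw [Subsingleton.elim b 0, TensorProduct.tmul_zero]
      | add a b ha hb => rw [ha, hb, add_zero]
  exact @Equiv.subsingleton _ _ (Groth.L00.Stk.τ x M (ClSub.quotMod I)).toLinearEquiv.symm.toEquiv ‹_›

variable [AlgebraicGeometry.IsNoetherian X] {W : X.Opens}

omit [AlgebraicGeometry.IsNoetherian X] in
theorem rs_add (N : X.Modules) {U V : X.Opens} (h : V ≤ U) (s t : Γ(N, U)) :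
    rs N h (s + t) = rs N h s + rs N h t := map_add (N.presheaf.map (homOfLE h).op).hom s t

omit [AlgebraicGeometry.IsNoetherian X] in
theorem rs_zero (N : X.Modules) {U V : X.Opens} (h : V ≤ U) : rs N h (0 : Γ(N, U)) = 0 :=
  map_zero (N.presheaf.map (homOfLE h).op).hom

theorem bijective_rs_of_supp {N : X.Modules} (hN : Groth.L21.RR.SuppClosed N)
    (hW : ∀ x : X, x ∉ W → Subsingleton (N.presheaf.stalk x)) :
    Function.Bijective (rs N (le_top : W ≤ ⊤)) := by
  refine ⟨fun s t hst => Groth.L21.RR.germ_ext fun x _ => ?_, fun s => ?_⟩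
  · by_cases hx : x ∈ W
    · have := congrArg (N.presheaf.germ W x hx) hst
      rwa [Groth.L20.ModStalk.germ_rs, Groth.L20.ModStalk.germ_rs] at this
    · exact (hW x hx).elim _ _
  · classical
    let F : CohTop.Ab X.toTopCat := Coh.toAb N
    have hfin : {p : W | TopCat.Presheaf.germ F.obj W p.1 p.2 s ≠ 0}.Finite :=
      Groth.L21.RR.Top.finite_of_forall_isClosed (X := X.toTopCat) (Groth.L21.RR.Top.isClosed_setOf_germ_ne_zero (X := X.toTopCat) F W s)
        fun p hp => by
          by_contra hc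
          exact hp ((hN p.1 hc).elim _ _)
    let T : Finset X := (hfin.image (Subtype.val : W → X)).toFinset
    obtain ⟨t, ht⟩ := Groth.L21.RR.exists_section_of_finite hN
      (fun x => if hx : x ∈ W then N.presheaf.germ W x hx s else 0) T fun x hx => by
        split_ifs with h
        · by_contra hne
          exact hx ((Set.Finite.mem_toFinset _).2 ⟨⟨x, h⟩, hne, rfl⟩)
        · rfl
    refine ⟨t, Groth.L21.RR.germ_ext fun x hx => ?_⟩
    rw [Groth.L20.ModStalk.germ_rs, ht, dif_pos hx]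

end Supp

section Main

variable [AlgebraicGeometry.IsNoetherian X]

omit [AlgebraicGeometry.IsNoetherian X] in
theorem suppClosed_tensor (hI : Groth.L21.RR.SuppClosed (ClSub.quotMod I)) (M : X.Modules) :
    Groth.L21.RR.SuppClosed (CohB1.tensorMod M (ClSub.quotMod I)) := fun x hx =>
  subsingleton_stalk_tensor I M (hI x hx)

theorem subsingleton_ideal_high (hI : Groth.L21.RR.SuppClosed (ClSub.quotMod I)) {M : X.Modules}
    (hM : FlatMod.IsFlat M) {q : ℕ} (h : Subsingleton (Coh.HH X M (q + 2))) :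
    Subsingleton (Coh.HH X (CohB1.tensorMod M (ClSub.idealMod I)) (q + 2)) :=
  Groth.L22.Reg.subsingleton_of_exact (exact_delta_hmap (shortExact_quot I hM) (q + 1))
    (Groth.L21.RR.subsingleton_HH_of_suppClosed (suppClosed_tensor I hI M) q) h (map_zero _)

/-- The cohomology of `coker φ ⊗ I` vanishes when sections of `B` and `A` fill those of `B` on the points. -/
theorem subsingleton_coker_tensor_ideal {A B : X.Modules} (φ : A ⟶ B) [Mono φ] [Coh.IsQCoh A] [Coh.IsQCoh B]
    (hA : FlatMod.IsFlat A) (hB : FlatMod.IsFlat B) (hI : Groth.L21.RR.SuppClosed (ClSub.quotMod I))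
    {W : X.Opens} (hW : IsAffineOpen W) (hsupp : ∀ x : X, x ∉ W → Subsingleton ((ClSub.quotMod I).presheaf.stalk x))
    (hA0 : ∀ q, Subsingleton (Coh.HH X A q)) (hB1 : ∀ q, Subsingleton (Coh.HH X B (q + 1)))
    (hinj : ∀ (b : Γ(B, ⊤)) (a : Γ(A, W)), rs B le_top b + φ.app W a ∈ inIdeal I B hW → b = 0 ∧ a ∈ inIdeal I A hW)
    (hsurj : ∀ t : Γ(B, W), ∃ (b : Γ(B, ⊤)) (a : Γ(A, W)), t - (rs B le_top b + φ.app W a) ∈ inIdeal I B hW)
    (i : ℕ) : Subsingleton (Coh.HH X (CohB1.tensorMod (cokernel φ) (ClSub.idealMod I)) i) := by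
  let R := tensorRightF (ClSub.idealMod I)
  haveI : PreservesColimitsOfSize.{u, u} R := inferInstance
  haveI : PreservesFiniteColimits R := PreservesColimitsOfSize.preservesFiniteColimits _
  haveI : R.Additive := Functor.additive_of_preserves_binary_products _
  let S : ShortComplex X.Modules := ShortComplex.mk φ (cokernel.π φ) (cokernel.condition φ)
  let TA := ShortComplex.mk _ _ (ofIdeal_toQuot I A)
  let TB := ShortComplex.mk _ _ (ofIdeal_toQuot I B)
  have hTA : TA.ShortExact := shortExact_quot I hA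
  have hTB : TB.ShortExact := shortExact_quot I hB
  let τ : TA ⟶ TB :=
    { τ₁ := tensorMap φ (𝟙 _)
      τ₂ := φ
      τ₃ := tensorMap φ (𝟙 _)
      comm₁₂ := ofIdeal_nat I φ
      comm₂₃ := toQuot_nat I φ }
  have hmapφ : R.map φ = tensorMap φ (𝟙 _) := rfl
  have hmono : Mono (R.map φ) := by
    rw [hmapφ]
    haveI : Mono (ofIdeal I A) := hTA.mono_f
    haveI : Mono (tensorMap φ (𝟙 (ClSub.idealMod I)) ≫ ofIdeal I B) := by
      rw [ofIdeal_nat]; exact mono_comp _ _
    exact mono_of_mono _ (ofIdeal I B)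
  have hS : (S.map R).ShortExact :=
    { exact := ShortComplex.exact_of_g_is_cokernel _ (CokernelCofork.mapIsColimit _ (cokernelIsCokernel φ) R)
      mono_f := hmono
      epi_g := R.map_epi _ }
  have hB0 : ∀ q, Subsingleton (Coh.HH X (CohB1.tensorMod B (ClSub.idealMod I)) (q + 2)) := fun q =>
    subsingleton_ideal_high I hI hB (hB1 (q + 1))
  have hA2 : ∀ q, Subsingleton (Coh.HH X (CohB1.tensorMod A (ClSub.idealMod I)) (q + 2)) := fun q =>
    subsingleton_ideal_high I hI hA (hA0 (q + 2))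
  have hrsQ : ∀ M : X.Modules, Function.Bijective (rs (CohB1.tensorMod M (ClSub.quotMod I)) (le_top : W ≤ ⊤)) :=
    fun M => bijective_rs_of_supp (suppClosed_tensor I hI M) fun x hx => subsingleton_stalk_tensor I M (hsupp x hx)
  have hrs : ∀ {M N : X.Modules} (f : M ⟶ N) (s : Γ(M, ⊤)), rs N (le_top : W ≤ ⊤) (f.app ⊤ s) = f.app W (rs M le_top s) :=
    fun f s => (Groth.L16.EpiFrames.app_rs f le_top s).symm
  have hδA : Function.Surjective (delta hTA 0) := fun x =>
    ((exact_delta_hmap hTA 0) x).1 (@Subsingleton.elim _ (hA0 1) _ _)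
  have hδB : Function.Surjective (delta hTB 0) := fun x =>
    ((exact_delta_hmap hTB 0) x).1 (@Subsingleton.elim _ (hB1 0) _ _)
  have hnat : ∀ x, delta hTB 0 (hmap τ.τ₃ 0 x) = hmap (R.map φ) 1 (delta hTA 0 x) := fun x =>
    Groth.L16.Rees.delta_naturality hTA hTB τ x
  have hsecA : ∀ y : Coh.HH X TA.X₃ 0, ∃ a : Γ(A, W),
      (toQuot I A).app W a = rs _ (le_top : W ≤ ⊤) (e0 _ y) := fun y => surjective_toQuot_app I hA hW _
  have hres : ∀ (y : Coh.HH X TA.X₃ 0) (a : Γ(A, W)), (toQuot I A).app W a = rs _ (le_top : W ≤ ⊤) (e0 _ y) →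
      rs _ (le_top : W ≤ ⊤) (e0 _ (hmap τ.τ₃ 0 y)) = (toQuot I B).app W (φ.app W a) := fun y a ha => by
    rw [e0_hmap, hrs, ← ha]
    exact (congr($(congrArg (fun k => Scheme.Modules.Hom.app k W) (toQuot_nat I φ)) a)).symm
  have hinj1 : ∀ x, hmap (R.map φ) 1 x = 0 → x = 0 := fun x hx => by
    obtain ⟨y, rfl⟩ := hδA x
    obtain ⟨b', hb'⟩ := ((exact_hmap_delta hTB 0) _).1 ((hnat y).trans hx)
    obtain ⟨a, ha⟩ := hsecA y
    have h1 : (toQuot I B).app W (rs B (le_top : W ≤ ⊤) (e0 B b') + φ.app W (-a)) = 0 := by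
      rw [map_add, ← hrs, ← e0_hmap, hb', hres y a ha, map_neg, map_neg, add_neg_cancel]
    have h2 : (toQuot I A).app W a = 0 := by
      rw [toQuot_eq_zero_iff I hA hW]
      exact neg_mem_iff.1 (hinj _ _ ((toQuot_eq_zero_iff I hB hW _).1 h1)).2
    have h3 : y = 0 := (e0 _).injective <| (hrsQ A).1 <| by
      rw [← ha, h2, map_zero, rs_zero]
    rw [h3, map_zero]
  have hsurj1 : ∀ x, ∃ y, hmap (R.map φ) 1 y = x := fun x => by
    obtain ⟨z, rfl⟩ := hδB x
    obtain ⟨t, ht⟩ := surjective_toQuot_app I hB hW (rs _ (le_top : W ≤ ⊤) (e0 _ z))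
    obtain ⟨b, a, hba⟩ := hsurj t
    obtain ⟨y', hy'⟩ := (hrsQ A).2 ((toQuot I A).app W a)
    have hy : (toQuot I A).app W a = rs _ (le_top : W ≤ ⊤) (e0 TA.X₃ ((e0 TA.X₃).symm y')) := by
      rw [AddEquiv.apply_symm_apply]; exact hy'.symm
    refine ⟨delta hTA 0 ((e0 TA.X₃).symm y'), ?_⟩
    rw [← hnat]
    have hz : z = hmap TB.g 0 ((e0 B).symm b) + hmap τ.τ₃ 0 ((e0 TA.X₃).symm y') := (e0 _).injective <| (hrsQ B).1 <| by
      rw [map_add, rs_add, hres _ a hy, e0_hmap, hrs, AddEquiv.apply_symm_apply, ← ht, ← map_add, ← sub_eq_zero,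
        ← map_sub, toQuot_eq_zero_iff I hB hW]
      exact hba
    rw [hz, map_add, (exact_hmap_delta hTB 0).apply_apply_eq_zero]
    exact (zero_add _).symm
  match i with
  | 0 =>
    refine subsingleton_of_forall_eq 0 fun x => ?_
    obtain ⟨z, rfl⟩ := ((exact_hmap_delta hS 0) x).1 (hinj1 _ ((exact_delta_hmap hS 0).apply_apply_eq_zero x))
    suffices z = 0 by rw [this, map_zero]
    -- no sections of `B ⊗ I`
    have h1 : (toQuot I B).app ⊤ (e0 B (hmap TB.f 0 z)) = 0 := by
      rw [← e0_hmap]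
      change e0 _ (hmap TB.g 0 (hmap TB.f 0 z)) = 0
      rw [(exact_hmap_hmap hTB 0).apply_apply_eq_zero, map_zero]
    have h2 : rs B (le_top : W ≤ ⊤) (e0 B (hmap TB.f 0 z)) + φ.app W 0 ∈ inIdeal I B hW := by
      rw [map_zero, add_zero, ← toQuot_eq_zero_iff I hB hW, ← hrs, h1]
      exact map_zero _
    have h3 := (hinj _ _ h2).1
    rw [e0_hmap] at h3
    haveI : Mono TB.f := hTB.mono_f
    apply (e0 _).injective
    rw [map_zero]
    exact Groth.L17.DeligneHom.app_injective TB.f ⊤ (h3.trans (map_zero _).symm)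
  | 1 =>
    refine subsingleton_of_forall_eq 0 fun x => ?_
    obtain ⟨z, rfl⟩ := ((exact_hmap_delta hS 1) x).1 (@Subsingleton.elim _ (hA2 0) _ _)
    obtain ⟨y, rfl⟩ := hsurj1 z
    exact (exact_hmap_hmap hS 1).apply_apply_eq_zero y
  | n + 2 =>
    exact Groth.L22.Reg.subsingleton_of_exact (exact_hmap_delta hS (n + 2)) (hB0 n) (hA2 (n + 1)) (map_zero _)

end Main

end Groth.L17.Gaeta
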